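import Groth.Agent.LefMon.K372.Pcl

/-!
# Uniqueness and existence of extensions of classes, abstract form

`w : Cb ⟶ C ⟶ Y` (geometric generic fibre, generic fibre, open part of the total space):
* `eq_zero`: a class on `Y` which vanishes on `Cb` and on a section vanishes;
* `exists_class`: an `n`-torsion line bundle on `Y` which restricts to `pcl x ^ e` on `Cb` gives a class restricting to
  `e • x`.
-/

set_option autoImplicit false
universe u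
open CategoryTheory CategoryTheory.Limits AlgebraicGeometry Opposite Abelian
open scoped Groth.Agent.Etcore.EtInst Groth.Agent.Etcore.HC
open Groth.Agent.Etcore.EtInst Groth.Agent.Etcore.PullCoh Groth.Agent.Etcore.HpullCalc
open Groth.Agent.Etcore.HC Groth.Agent.Etcore.GmFun Groth.Agent.Etcore.ZetaMap
open Groth.Agent.Etcore.KummerCls Groth.Agent.Grpsch.PicGrp

namespace K372.Abs

open K372.PicEt K372.Pcl

variable {K : Type u} [Field K] {n : ℕ} [NeZero n] {ζ : K} (hζ : IsPrimitiveRoot ζ n) (hn : (n : K) ≠ 0)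

/-- The structure map on global sections. -/
noncomputable def sg {X : Scheme.{u}} (p : X ⟶ Spec (CommRingCat.of K)) : K →+* Γ(X, ⊤) :=
  p.appTop.hom.comp (Scheme.ΓSpecIso (CommRingCat.of K)).inv.hom

theorem sg_comp {X Y : Scheme.{u}} (f : X ⟶ Y) (p : Y ⟶ Spec (CommRingCat.of K)) (q : X ⟶ Spec (CommRingCat.of K))
    (h : f ≫ p = q) : sg q = f.appTop.hom.comp (sg p) := by
  subst h
  rw [sg, sg, Scheme.Hom.comp_appTop]
  rfl

include hζ hn in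
/-- **Uniqueness.** -/
theorem eq_zero {Y C Cb B T : Scheme.{u}} (g : C ⟶ Y) (w : Cb ⟶ C) (f : C ⟶ T) (s : T ⟶ C) (a : B ⟶ Y) (b : T ⟶ B)
    (π : Y ⟶ Spec (CommRingCat.of K)) (πT : T ⟶ Spec (CommRingCat.of K)) (hπ : f ≫ πT = g ≫ π)
    (hs : s ≫ f = 𝟙 T) (hsq : s ≫ g = b ≫ a)
    (hinj : ∀ z : HH Y (EtCoh.const Y (ZMod n)) 1, HC (ZMod n) g 1 z = 0 → z = 0)
    (hpic : ∀ p : Pic C, pull w p = 1 → p = 1)
    (hun : ∀ u : (Γ(C, ⊤))ˣ, ∃ v : (Γ(T, ⊤))ˣ, (u : Γ(C, ⊤)) = f.appTop.hom (v : Γ(T, ⊤)))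
    (z : HH Y (EtCoh.const Y (ZMod n)) 1) (h1 : HC (ZMod n) a 1 z = 0) (h2 : HC (ZMod n) (w ≫ g) 1 z = 0) :
    z = 0 := by
  apply hinj
  set zC := HC (ZMod n) g 1 z with hzC
  have h3 : pull w (pcl hζ (sg (g ≫ π)) zC) = 1 := by
    rw [pull_pcl hζ (sg (w ≫ g ≫ π)) w (sg (g ≫ π)) (sg_comp w (g ≫ π) _ rfl), hzC,
      HC_HC (ZMod n) w g (w ≫ g) rfl, h2, pcl_zero]
  obtain ⟨u, hu⟩ := exists_kap_of_pcl_eq_one hζ (sg (g ≫ π)) hn zC (hpic _ h3)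
  obtain ⟨v, hv⟩ := hun u
  have h4 : HC (ZMod n) f 1 (kap hζ (sg πT) hn v) = zC := by
    rw [← hu]
    exact HC_kap hζ (sg (g ≫ π)) hn f (sg πT) (sg_comp f πT _ hπ) v u hv
  have h5 : kap hζ (sg πT) hn v = 0 := by
    have e1 : HC (ZMod n) s 1 (HC (ZMod n) f 1 (kap hζ (sg πT) hn v)) = kap hζ (sg πT) hn v := by
      rw [HC_HC (ZMod n) s f (𝟙 T) hs, HC_id]
    rw [← e1, h4, hzC, HC_HC (ZMod n) s g (b ≫ a) hsq, ← HC_HC (ZMod n) b a (b ≫ a) rfl, h1, map_zero]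
  rw [← h4, h5, map_zero]

include hζ hn in
/-- **Existence.** -/
theorem exists_class {Y Cb : Scheme.{u}} (j : Cb ⟶ Y) (π : Y ⟶ Spec (CommRingCat.of K))
    (hdiv : ∀ x : (Γ(Cb, ⊤))ˣ, ∃ y, y ^ n = x)
    (x : HH Cb (EtCoh.const Cb (ZMod n)) 1) (e : ℕ) (M : Pic Y) (hM : M ^ n = 1)
    (hM' : pull j M = pcl hζ (sg (j ≫ π)) x ^ e) :
    ∃ z : HH Y (EtCoh.const Y (ZMod n)) 1, HC (ZMod n) j 1 z = e • x := by
  obtain ⟨z, hz⟩ := exists_pcl_eq hζ (sg π) hn M hM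
  refine ⟨z, pcl_injective hζ (sg (j ≫ π)) hn hdiv ?_⟩
  rw [pcl_nsmul, ← hM', ← hz]
  exact (pull_pcl hζ (sg (j ≫ π)) j (sg π) (sg_comp j π _ rfl) z).symm

end K372.Abs
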