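import Groth.Agent.LefMon.K372.LocExt2
import Groth.Agent.S4366
import Groth.Agent.Models.K380.Bir
import Mathlib.AlgebraicGeometry.Morphisms.Preimmersion

/-!
# The total space over the local scheme at a closed point

`ρ : X' ⟶ S` proper flat, `p : S` closed with `O_{S,p}` a discrete valuation ring, `X'` regular, with generic fibre a
smooth proper curve having a rational point:
* `exists_lift`, `exists_lift_one`: extension of torsion line bundles on the generic fibre to `X' ×_S Spec O_{S,p}`.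
-/

set_option autoImplicit false
universe u
open CategoryTheory CategoryTheory.Limits AlgebraicGeometry Opposite TopologicalSpace IsLocalRing

namespace K372.LocFib

open Groth.Agent Groth.Agent.Grpsch.PicGrp

theorem isIrreducible_preimage {A B : Type*} [TopologicalSpace A] [TopologicalSpace B] {f : A → B}
    (hf : Topology.IsInducing f) {t : Set B} (ht : t ⊆ Set.range f) (h : IsIrreducible t) : IsIrreducible (f ⁻¹' t) := by
  refine ⟨?_, ?_⟩
  · obtain ⟨y, hy⟩ := h.1
    obtain ⟨x, rfl⟩ := ht hy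
    exact ⟨x, hy⟩
  · intro U V hU hV hU' hV'
    obtain ⟨U', hU1, rfl⟩ := hf.isOpen_iff.1 hU
    obtain ⟨V', hV1, rfl⟩ := hf.isOpen_iff.1 hV
    obtain ⟨a, ha, ha'⟩ := hU'
    obtain ⟨b, hb, hb'⟩ := hV'
    obtain ⟨y, hy, hy'⟩ := h.2 U' V' hU1 hV1 ⟨f a, ha, ha'⟩ ⟨f b, hb, hb'⟩
    obtain ⟨x, rfl⟩ := ht hy
    exact ⟨x, hy, hy'⟩

variable {S X' : Scheme.{u}} (ρ : X' ⟶ S) (p : S)

/-- The local total space. -/
noncomputable abbrev Xp : Scheme.{u} := pullback ρ (S.fromSpecStalk p)

/-- Its structure morphism. -/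
noncomputable abbrev fp : Xp ρ p ⟶ Spec (CommRingCat.of (S.presheaf.stalk p)) := pullback.snd ρ (S.fromSpecStalk p)

theorem rho_fst (x : Xp ρ p) : ρ (pullback.fst ρ (S.fromSpecStalk p) x) = S.fromSpecStalk p (fp ρ p x) := by
  rw [← Scheme.Hom.comp_apply, pullback.condition, Scheme.Hom.comp_apply]

theorem fromSpecStalk_eq_iff (y : Spec (CommRingCat.of (S.presheaf.stalk p))) :
    S.fromSpecStalk p y = p ↔ y = closedPoint (S.presheaf.stalk p) := by
  constructor
  · intro h
    apply (S.fromSpecStalk p).isEmbedding.injective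
    rw [h]
    exact (Scheme.fromSpecStalk_closedPoint).symm
  · rintro rfl
    exact Scheme.fromSpecStalk_closedPoint

variable {p} in
theorem isClosed_fst (hp : IsClosed ({p} : Set S)) [UniversallyClosed ρ] (x : Xp ρ p)
    (hx : IsClosed ({x} : Set (Xp ρ p))) :
    IsClosed ({pullback.fst ρ (S.fromSpecStalk p) x} : Set X') := by
  have h1 : IsClosed ({fp ρ p x} : Set (Spec (CommRingCat.of (S.presheaf.stalk p)))) := by
    have h := (fp ρ p).isClosedMap _ hx
    rwa [Set.image_singleton] at h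
  have h2 : fp ρ p x = closedPoint (S.presheaf.stalk p) :=
    ((specializes_closedPoint (R := S.presheaf.stalk p) (fp ρ p x)).mem_closed h1 rfl).symm
  have h3 : ρ (pullback.fst ρ (S.fromSpecStalk p) x) = p := by
    rw [rho_fst, h2]
    exact Scheme.fromSpecStalk_closedPoint
  rw [← closure_subset_iff_isClosed]
  intro z hz
  have h4 : pullback.fst ρ (S.fromSpecStalk p) x ⤳ z := specializes_iff_mem_closure.2 hz
  have h5 : ρ z = p := by
    have h := h4.map ρ.continuous
    rw [h3] at h
    exact h.mem_closed hp rfl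
  have h6 : z ∈ Set.range (pullback.fst ρ (S.fromSpecStalk p)) := by
    rw [Scheme.Pullback.range_fst, Set.mem_preimage, Scheme.range_fromSpecStalk, h5]
    exact specializes_rfl
  obtain ⟨z', rfl⟩ := h6
  have h7 : x ⤳ z' := (pullback.fst ρ (S.fromSpecStalk p)).isEmbedding.isInducing.specializes_iff.1 h4
  have h8 : z' = x := h7.mem_closed hx rfl
  rw [h8]
  exact Set.mem_singleton _

theorem isRegularScheme (h : Models.IsRegularScheme X') : Models.IsRegularScheme (Xp ρ p) := by
  intro t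
  have h1 : IsIso ((pullback.fst ρ (S.fromSpecStalk p)).stalkMap t) := S4366.result ρ p t
  have h2 := h (pullback.fst ρ (S.fromSpecStalk p) t)
  exact IsRegularLocalRing.of_ringEquiv (asIso ((pullback.fst ρ (S.fromSpecStalk p)).stalkMap t)).commRingCatIsoToRingEquiv

theorem ringKrullDim_stalk (t : Xp ρ p) : ringKrullDim ((Xp ρ p).presheaf.stalk t) =
    ringKrullDim (X'.presheaf.stalk (pullback.fst ρ (S.fromSpecStalk p) t)) := by
  have h1 : IsIso ((pullback.fst ρ (S.fromSpecStalk p)).stalkMap t) := S4366.result ρ p t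
  exact (ringKrullDim_eq_of_ringEquiv
    (asIso ((pullback.fst ρ (S.fromSpecStalk p)).stalkMap t)).commRingCatIsoToRingEquiv).symm

variable {K : Type u} [Field K] {gen : Spec (CommRingCat.of K) ⟶ S} (φ : S.presheaf.stalk p ⟶ CommRingCat.of K)
  (hφ : Spec.map φ ≫ S.fromSpecStalk p = gen)

/-- The map from the generic fibre. -/
noncomputable def gp : pullback ρ gen ⟶ Xp ρ p :=
  pullback.lift (pullback.fst ρ gen) (pullback.snd ρ gen ≫ Spec.map φ) (by
    rw [Category.assoc, hφ, pullback.condition])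

theorem gp_fst : gp ρ p φ hφ ≫ pullback.fst ρ (S.fromSpecStalk p) = pullback.fst ρ gen := pullback.lift_fst _ _ _

theorem isPullback_gp : IsPullback (gp ρ p φ hφ) (pullback.snd ρ gen) (fp ρ p) (Spec.map φ) := by
  have h1 : IsPullback (pullback.fst ρ (S.fromSpecStalk p)) (fp ρ p) ρ (S.fromSpecStalk p) := IsPullback.of_hasPullback _ _
  have h2 : IsPullback (gp ρ p φ hφ ≫ pullback.fst ρ (S.fromSpecStalk p)) (pullback.snd ρ gen) ρ
      (Spec.map φ ≫ S.fromSpecStalk p) := by
    rw [gp_fst, hφ]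
    exact IsPullback.of_hasPullback _ _
  exact IsPullback.of_right h2 (pullback.lift_snd _ _ _) h1

variable [IsProper ρ] [Flat ρ] (hp : IsClosed ({p} : Set S)) [hdom : IsDomain (S.presheaf.stalk p)]
  [hdvr : IsDiscreteValuationRing (S.presheaf.stalk p)] (hreg : Models.IsRegularScheme X')
  (hdim : ∀ x : X', IsClosed ({x} : Set X') → ringKrullDim (X'.presheaf.stalk x) = 2)
  (hfr : @IsFractionRing (S.presheaf.stalk p) _ K _ φ.hom.toAlgebra)
  (hC : Curve.IsSmoothProperCurve K (pullback ρ gen) (pullback.snd ρ gen))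
  (hH0 : IsIso (pullback.snd ρ gen).appTop)
  (s : Spec (CommRingCat.of K) ⟶ pullback ρ gen) (hs : s ≫ pullback.snd ρ gen = 𝟙 _)

include hp hreg hdim hfr hC hH0 hs in
theorem exists_lift :
    ∃ e : ℕ, 0 < e ∧ ∀ (m : ℕ) (a : Pic (pullback ρ gen)), 0 < m → a ^ m = 1 →
      ∃ b : Pic (Xp ρ p), b ^ m = 1 ∧ pull (gp ρ p φ hφ) b = a ^ e :=
  LocExt2.exists_lift (R := S.presheaf.stalk p) φ.hom hfr hC hH0 (p := fp ρ p) inferInstance inferInstance
    (isRegularScheme ρ p hreg) (isPullback_gp ρ p φ hφ) s hs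
    (fun x hx => by rw [ringKrullDim_stalk, hdim _ (isClosed_fst ρ hp x hx)])

include hp hreg hdim hfr hC hH0 hs in
theorem exists_lift_one (hirr : IsIrreducible (ρ ⁻¹' {p})) (m : ℕ) (a : Pic (pullback ρ gen)) (ha : a ^ m = 1) :
    ∃ b : Pic (Xp ρ p), b ^ m = 1 ∧ pull (gp ρ p φ hφ) b = a := by
  refine LocExt2.exists_lift_one (R := S.presheaf.stalk p) φ.hom hfr hC hH0 (p := fp ρ p) inferInstance inferInstance
    (isRegularScheme ρ p hreg) (isPullback_gp ρ p φ hφ) s hs
    (fun x hx => by rw [ringKrullDim_stalk, hdim _ (isClosed_fst ρ hp x hx)]) ?_ m a ha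
  have h1 : (fp ρ p) ⁻¹' {closedPoint (S.presheaf.stalk p)} =
      (pullback.fst ρ (S.fromSpecStalk p)) ⁻¹' (ρ ⁻¹' {p}) := by
    ext x
    simp only [Set.mem_preimage, Set.mem_singleton_iff]
    rw [rho_fst]
    exact (fromSpecStalk_eq_iff p _).symm
  have h2 : ρ ⁻¹' {p} ⊆ Set.range (pullback.fst ρ (S.fromSpecStalk p)) := by
    intro z hz
    rw [Scheme.Pullback.range_fst, Set.mem_preimage, Scheme.range_fromSpecStalk]
    rw [Set.mem_preimage, Set.mem_singleton_iff] at hz
    rw [hz]
    exact specializes_rfl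
  rw [h1]
  exact isIrreducible_preimage (pullback.fst ρ (S.fromSpecStalk p)).isEmbedding.isInducing h2 hirr

include hreg hfr hC hH0 hs hφ in
/-- The fibre at `p` is connected. -/
theorem isConnected_fibre : _root_.IsConnected (ρ ⁻¹' {p}) := by
  have h := LocExt2.isConnected_fibre (R := S.presheaf.stalk p) φ.hom hfr hC hH0 (p := fp ρ p) inferInstance inferInstance
    (isRegularScheme ρ p hreg) (isPullback_gp ρ p φ hφ) s hs
  have h1 : (fp ρ p) ⁻¹' {closedPoint (S.presheaf.stalk p)} =
      (pullback.fst ρ (S.fromSpecStalk p)) ⁻¹' (ρ ⁻¹' {p}) := by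
    ext x
    simp only [Set.mem_preimage, Set.mem_singleton_iff]
    rw [rho_fst]
    exact (fromSpecStalk_eq_iff p _).symm
  have h2 : ρ ⁻¹' {p} ⊆ Set.range (pullback.fst ρ (S.fromSpecStalk p)) := by
    intro z hz
    rw [Scheme.Pullback.range_fst, Set.mem_preimage, Scheme.range_fromSpecStalk]
    rw [Set.mem_preimage, Set.mem_singleton_iff] at hz
    rw [hz]
    exact specializes_rfl
  rw [h1] at h
  rw [← Set.image_preimage_eq_of_subset h2]
  exact h.image _ (Scheme.Hom.continuous _).continuousOn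

end K372.LocFib
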