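import Groth.Agent.LefMon.K372.GenFib
import Groth.Agent.LefMon.K372.LocFib
import Groth.Agent.Lefpen.H705.ClosedPoint
import Groth.Agent.S1535

/-!
# A uniform exponent for the extension of torsion line bundles on the generic fibre of a Lefschetz pencil

`exists_const`: there is `c > 0` such that for every closed point `p` of the line and every torsion class `a` on the
generic fibre (of order dividing `m > 0`), `a ^ c` extends to a class of order dividing `m` over `Spec O_{P^1, p}`.
-/

set_option autoImplicit false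
universe u
open CategoryTheory CategoryTheory.Limits AlgebraicGeometry Opposite TopologicalSpace IsLocalRing

namespace K372.Bad

open LefPen Groth.Agent Groth.Agent.Grpsch.PicGrp Groth.Agent.Lefpen.H723.PencilGeom
  Groth.Agent.Lefpen.H723.PencilSmooth Groth.Agent.Lefpen.H723.P1Pt
  Groth.Agent.Lefpen.H370.RhoGeo Groth.Agent.Lefpen.H717.ProjIrr K372.GenFib K372.LocFib

variable {k : Type u} [Field k]

/-- A scheme smooth over a field whose image under an embedding is a connected set has irreducible image. -/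
theorem isIrreducible_range {Z X' : Scheme.{u}} (t : Z ⟶ Spec (CommRingCat.of k)) [Smooth t] (m : Z ⟶ X')
    [IsClosedImmersion m] (h : _root_.IsConnected (Set.range m)) : IsIrreducible (Set.range m) := by
  have h1 : IsLocallyNoetherian Z := LocallyOfFiniteType.isLocallyNoetherian t
  have h2 : ConnectedSpace Z := by
    rw [connectedSpace_iff_univ]
    have h3 : _root_.IsConnected (m '' Set.univ) := by rwa [Set.image_univ]
    refine ⟨?_, m.isEmbedding.isInducing.isPreconnected_image.1 h3.2⟩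
    obtain ⟨y, z, -⟩ := h3.1
    exact ⟨z, trivial⟩
  have h4 : IsIntegral Z :=
    (Ega1.GenPts.isIntegral_iff Z).2 ⟨inferInstance, fun x => (Dix.NormalLoc.stalk_of_smooth t x).1⟩
  rw [← Set.image_univ]
  exact (IrreducibleSpace.isIrreducible_univ Z).image _ m.continuous.continuousOn

theorem range_pt_eq (j : Fin (1 + 1)) (c : k) : Set.range (pt j c) = {pt j c (closedPoint k)} := by
  ext z
  constructor
  · rintro ⟨y, rfl⟩
    have : y = closedPoint k := Subsingleton.elim (α := PrimeSpectrum k) _ _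
    rw [this]
    rfl
  · rintro rfl
    exact ⟨_, rfl⟩

theorem isClosed_pt (j : Fin (1 + 1)) (c : k) : IsClosed ({pt j c (closedPoint k)} : Set (CohB1.ProjSpace 1 k)) := by
  rw [← range_pt_eq]
  exact (pt j c).isClosedEmbedding.isClosed_range

variable [IsAlgClosed k] {r d : ℕ} {X X' : Scheme.{u}}
  {i : X ⟶ CohB1.ProjSpace r k} {F G : Form r k d} {b : X' ⟶ X} {ρ : X' ⟶ CohB1.ProjSpace 1 k}
  [IsClosedImmersion i] [IrreducibleSpace X] [SmoothOfRelativeDimension 2 (i ≫ CohB1.ProjSpace.toSpec r k)]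
  (hL : IsLefschetzPencil k 2 i d F G) (hρ : LefMon.IsPencilFibration i F G b ρ)

include hL hρ in
omit [IsAlgClosed k] [IsClosedImmersion i] [IrreducibleSpace X] in
theorem isRegularScheme : Models.IsRegularScheme X' := by
  have h1 : Smooth (ρ ≫ CohB1.ProjSpace.toSpec 1 k) := Lefpen.H470.PencilSm.smooth_total (n := 2) (by norm_num) hL hρ
  intro x
  exact Lefpen.H705.ClosedPoint.isRegularLocalRing_stalk (ρ ≫ CohB1.ProjSpace.toSpec 1 k) x

include hL hρ in
omit [IsAlgClosed k] [IsClosedImmersion i] [IrreducibleSpace X] in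
theorem ringKrullDim_stalk (x : X') (hx : IsClosed ({x} : Set X')) : ringKrullDim (X'.presheaf.stalk x) = 2 := by
  have h1 : SmoothOfRelativeDimension 2 (ρ ≫ CohB1.ProjSpace.toSpec 1 k) :=
    Lefpen.H470.PencilSm.smoothOfRelDim_of_isLefschetzPencil (n := 2) (by norm_num) hL hρ
  exact Lefpen.H705.ClosedPoint.ringKrullDim_stalk (ρ ≫ CohB1.ProjSpace.toSpec 1 k) 2 x hx

/-- The local ring of the line at `p` in its function field. -/
structure Frac (k : Type u) [Field k] (p : CohB1.ProjSpace 1 k) where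
  φ : (CohB1.ProjSpace 1 k).presheaf.stalk p ⟶ CommRingCat.of (RatFunc k)
  hφ : Spec.map φ ≫ (CohB1.ProjSpace 1 k).fromSpecStalk p = LefMon.genPt k
  hfr : @IsFractionRing ((CohB1.ProjSpace 1 k).presheaf.stalk p) _ (RatFunc k) _ φ.hom.toAlgebra

omit [IsAlgClosed k] in
theorem nonempty_frac (p : CohB1.ProjSpace 1 k) : Nonempty (Frac k p) := by
  obtain ⟨φ, h1, h2⟩ := K372.P1Loc.exists_frac k p
  exact ⟨⟨CommRingCat.ofHom φ, h1, h2⟩⟩

/-- The chosen fraction field structure. -/
noncomputable def fr (k : Type u) [Field k] (p : CohB1.ProjSpace 1 k) : Frac k p := (nonempty_frac p).some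

variable (ρ) in
/-- The map from the generic fibre to the local total space. -/
noncomputable def gK (p : CohB1.ProjSpace 1 k) : XK ρ ⟶ Xp ρ p := gp ρ p (fr k p).φ (fr k p).hφ

omit [IsAlgClosed k] in
theorem gK_fst (p : CohB1.ProjSpace 1 k) :
    gK ρ p ≫ pullback.fst ρ ((CohB1.ProjSpace 1 k).fromSpecStalk p) = pullback.fst ρ (LefMon.genPt k) :=
  gp_fst _ _ _ _

/-- `a ^ e` extends over `p`. -/
def Ext (ρ : X' ⟶ CohB1.ProjSpace 1 k) (p : CohB1.ProjSpace 1 k) (e : ℕ) : Prop :=
  ∀ (m : ℕ) (a : Pic (XK ρ)), 0 < m → a ^ m = 1 → ∃ b : Pic (Xp ρ p), b ^ m = 1 ∧ pull (gK ρ p) b = a ^ e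

omit [IsAlgClosed k] in
theorem Ext.mul {p : CohB1.ProjSpace 1 k} {e : ℕ} (h : Ext ρ p e) (e' : ℕ) : Ext ρ p (e * e') := by
  intro m a hm ha
  obtain ⟨b, hb, hb'⟩ := h m a hm ha
  exact ⟨b ^ e', by rw [← pow_mul, mul_comm, pow_mul, hb, one_pow], by rw [map_pow, hb', pow_mul]⟩

variable (sK : Spec (CommRingCat.of (RatFunc k)) ⟶ XK ρ) (hsK : sK ≫ fK ρ = 𝟙 _)

include hL hρ hsK in
theorem exists_ext (p : CohB1.ProjSpace 1 k) (hp : IsClosed ({p} : Set (CohB1.ProjSpace 1 k))) :
    ∃ e, 0 < e ∧ Ext ρ p e := by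
  have h1 := isProper_rho hρ
  have h3 : Flat ρ := flat_rho_of_isLefschetzPencil (n := 2) hL hρ
  have h4 := (Lefpen.H723.P1Flat.stalk_pid k p).1
  have h5 := K372.P1Loc.isDVR k p hp
  exact exists_lift ρ p (fr k p).φ (fr k p).hφ hp (isRegularScheme hL hρ) (ringKrullDim_stalk hL hρ) (fr k p).hfr
    (isSmoothProperCurve hL hρ) (isIso_appTop hL hρ sK hsK) sK hsK

include hL hρ hsK in
theorem isConnected_fibre (p : CohB1.ProjSpace 1 k) (hp : IsClosed ({p} : Set (CohB1.ProjSpace 1 k))) :
    _root_.IsConnected (ρ ⁻¹' {p}) := by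
  have h1 := isProper_rho hρ
  have h3 : Flat ρ := flat_rho_of_isLefschetzPencil (n := 2) hL hρ
  have h4 := (Lefpen.H723.P1Flat.stalk_pid k p).1
  have h5 := K372.P1Loc.isDVR k p hp
  exact LocFib.isConnected_fibre ρ p (fr k p).φ (fr k p).hφ (isRegularScheme hL hρ) (fr k p).hfr
    (isSmoothProperCurve hL hρ) (isIso_appTop hL hρ sK hsK) sK hsK

include hL hρ hsK in
theorem ext_one (c : k) (hc : Transversal k 2 1 (secToSpec i {F + c • G})) : Ext ρ (pt 0 c (closedPoint k)) 1 := by
  have hp : IsClosed ({pt 0 c (closedPoint k)} : Set (CohB1.ProjSpace 1 k)) := isClosed_pt 0 c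
  have h1 := isProper_rho hρ
  have h3 : Flat ρ := flat_rho_of_isLefschetzPencil (n := 2) hL hρ
  have h4 := (Lefpen.H723.P1Flat.stalk_pid k (pt 0 c (closedPoint k))).1
  have h5 := K372.P1Loc.isDVR k _ hp
  have hirr : IsIrreducible (ρ ⁻¹' {pt 0 c (closedPoint k)}) := by
    obtain ⟨m, -, hm⟩ := isPullback_line hρ c
    have h6 := smooth_of_transversal (n := 2) (by norm_num) hc
    have h7 : Smooth (secToSpec i {F + c • G}) := SmoothOfRelativeDimension.smooth (2 - 1) _
    rw [fieldPt_eq] at hm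
    have h8 : IsClosedImmersion m := MorphismProperty.of_isPullback hm.flip inferInstance
    have h9 : Set.range m = ρ ⁻¹' {pt 0 c (closedPoint k)} := by
      rw [← range_pt_eq]
      ext y
      rw [mem_range_iff hm, Set.mem_preimage, range_pt]
      rfl
    rw [← h9]
    refine isIrreducible_range (secToSpec i {F + c • G}) m ?_
    rw [h9]
    exact isConnected_fibre hL hρ sK hsK _ hp
  intro m a hm ha
  obtain ⟨b, hb, hb'⟩ := exists_lift_one ρ _ (fr k _).φ (fr k _).hφ hp (isRegularScheme hL hρ) (ringKrullDim_stalk hL hρ)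
    (fr k _).hfr (isSmoothProperCurve hL hρ) (isIso_appTop hL hρ sK hsK) sK hsK hirr m a ha
  exact ⟨b, hb, by rw [pow_one]; exact hb'⟩

include hL hρ hsK in
/-- **A uniform exponent.** -/
theorem exists_const : ∃ c : ℕ, 0 < c ∧ ∀ p : CohB1.ProjSpace 1 k,
    IsClosed ({p} : Set (CohB1.ProjSpace 1 k)) → Ext ρ p c := by
  classical
  choose e he hE using fun (j : Fin (1 + 1)) (c : k) => exists_ext hL hρ sK hsK _ (isClosed_pt j c)
  let B : Finset k := hL.2.2.1.toFinset
  have key : ∀ (j : Fin (1 + 1)) (c : k) (p : CohB1.ProjSpace 1 k), p ∈ (hypIdeal (lin j c)).support →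
      p = pt j c (closedPoint k) := by
    intro j c p hpc
    have h1 : p ∈ Set.range (pt j c) := by rw [range_pt]; exact hpc
    rwa [range_pt_eq] at h1
  refine ⟨(∏ c ∈ B, e 0 c) * e 1 0, Nat.mul_pos (Finset.prod_pos fun c _ => he 0 c) (he 1 0), fun p hp => ?_⟩
  rcases Groth.Agent.Lefpen.H723.P1Closed.exists_mem_support p hp with ⟨c, hc⟩ | hc
  · rw [line_eq] at hc
    obtain rfl := key 0 c p hc
    by_cases hcB : c ∈ B
    · rw [← Finset.mul_prod_erase B _ hcB, mul_assoc]
      exact (hE 0 c).mul _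
    · have h1 : Transversal k 2 1 (secToSpec i {F + c • G}) := by
        by_contra h
        exact hcB (hL.2.2.1.mem_toFinset.2 h)
      have h2 := (ext_one hL hρ sK hsK c h1).mul ((∏ c ∈ B, e 0 c) * e 1 0)
      rwa [one_mul] at h2
  · rw [lineInf_eq] at hc
    obtain rfl := key 1 0 p hc
    rw [mul_comm]
    exact (hE 1 0).mul _

end K372.Bad
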