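import Groth.Agent.S4028
import Groth.Agent.LefMon.K372.Bad
import Groth.Agent.Etcore.HC

/-!
# `H^1` of the total space of a pencil comes from the surface

`surjective_b`: `b^* : H^1(X, Z/m) → H^1(X', Z/m)` is surjective.
-/

set_option autoImplicit false
universe u
open CategoryTheory CategoryTheory.Limits AlgebraicGeometry Opposite Abelian TopologicalSpace IsLocalRing
open scoped Groth.Agent.Etcore.EtInst Groth.Agent.Etcore.HC
open Groth.Agent.Etcore.EtInst Groth.Agent.Etcore.HpullCalc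
open Groth.Agent.Etcore.HC

namespace K372.BlowSurj

open LefPen Groth.Agent

attribute [local instance] Groth.Agent.S0101.result

theorem surjective_of_quot {A B : Type*} [AddCommGroup A] [AddCommGroup B] (φ : A →+ B) {ι : Type*} [IsEmpty ι]
    {C : ι → Type*} [∀ i, AddCommGroup (C i)] (h : Nonempty (B ⧸ φ.range ≃+ (∀ i, C i))) : Function.Surjective φ := by
  obtain ⟨e⟩ := h
  have h1 : Subsingleton (B ⧸ φ.range) := e.toEquiv.subsingleton
  have h2 : φ.range = ⊤ := (QuotientAddGroup.subsingleton_iff).1 h1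
  exact AddMonoidHom.range_eq_top.1 h2

variable {k : Type u} [Field k] [IsAlgClosed k] {r d : ℕ} {X X' : Scheme.{u}}
  {i : X ⟶ CohB1.ProjSpace r k} {F G : Form r k d} {b : X' ⟶ X} {ρ : X' ⟶ CohB1.ProjSpace 1 k}
  [SmoothOfRelativeDimension 2 (i ≫ CohB1.ProjSpace.toSpec r k)]

theorem surjective_b (hL : IsLefschetzPencil k 2 i d F G) (hρ : LefMon.IsPencilFibration i F G b ρ) (m : ℕ)
    (hm0 : 0 < m) (hm : (m : k) ≠ 0) : Function.Surjective (HC (ZMod m) b 1) := by
  have hs : SmoothOfRelativeDimension (2 - (1 + 1)) ((secIdeal i {F, G}).subschemeι ≫ i ≫ CohB1.ProjSpace.toSpec r k) := by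
    rcases hL.2.1 with ⟨-, h⟩ | ⟨h, -⟩
    · exact h
    · exact absurd h (by omega)
  have h := (Groth.Agent.S4028.result k m hm0 hm 2 1 (by norm_num) (i ≫ CohB1.ProjSpace.toSpec r k)
    (secIdeal i {F, G}) b hρ.1 1).2.1
  have hE : IsEmpty {j : Fin 1 // 2 * (j.1 + 1) ≤ 1} := ⟨fun j => by have := j.2; omega⟩
  exact surjective_of_quot _ h

end K372.BlowSurj
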