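import Groth.Agent.Models.H74.CurveBC
import Groth.Agent.AbVar.K521.SeesawRed
import Groth.Agent.Picfga.GaloisDescent
import Mathlib.FieldTheory.IsSepClosed
import Mathlib.FieldTheory.SeparableClosure

/-!
# Line bundles on a curve over a field and on its base change to the separable closure

`C` smooth proper curve over `K` with `Γ(C, O) = K`, `CΩ = C ×_K Ω`:
* `eq_one_of_pull`: triviality descends;
* `exists_desc`: Galois invariant classes descend if `C` has a rational point;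
* `exists_unit`, `exists_root`: units on `C` and on `CΩ`.
-/

set_option autoImplicit false
universe u
open CategoryTheory CategoryTheory.Limits AlgebraicGeometry Opposite TopologicalSpace

namespace K372.Gal

open Groth.Agent Groth.Agent.Grpsch.PicGrp Groth.Agent.Picfga.FieldSections Groth.Agent.Picfga.GaloisAct
  Groth.Agent.Fdesc.LocGen

variable {K : Type u} [Field K] {Ω : Type u} [Field Ω] [Algebra K Ω] {C CΩ : Scheme.{u}}
  {f : C ⟶ Spec (CommRingCat.of K)} {w : CΩ ⟶ C} {fΩ : CΩ ⟶ Spec (CommRingCat.of Ω)}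
  (hw : IsPullback w fΩ f (Spec.map (CommRingCat.ofHom (algebraMap K Ω))))
  (hC : Curve.IsSmoothProperCurve K C f) (hH0 : IsIso f.appTop)

include hw hC hH0 in
theorem eq_one_of_pull (c : Pic C) (hc : pull w c = 1) : c = 1 := by
  have h1 := Models.H74.CurveBC.geometricallyIntegral f hC
  have h2 : IsProper f := hC.1
  exact K521.SeesawRed.eq_one_of_field_ext K C f Ω CΩ w fΩ hw c hc

include hw hC hH0 in
theorem isIso_appTop : IsIso fΩ.appTop := by
  have h2 : IsProper f := hC.1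
  exact Models.H74.CurveBC.isIso_appTop f hw

include hw hC hH0 in
/-- Galois invariant classes descend. -/
theorem exists_desc [IsGalois K Ω] (s : Spec (CommRingCat.of K) ⟶ C) (hs : s ≫ f = 𝟙 _)
    (act : (Ω ≃ₐ[K] Ω) → (CΩ ⟶ CΩ)) (h1 : ∀ σ, act σ ≫ w = w)
    (h2 : ∀ σ, act σ ≫ fΩ = fΩ ≫ Spec.map (CommRingCat.ofHom (σ : Ω →+* Ω))) (c : Pic CΩ)
    (hc : ∀ σ, pull (act σ) c = c) : ∃ a : Pic C, pull w a = c := by
  have hpf : IsProper f := hC.1
  let e : CΩ ≅ pullback f (bc K Ω) := hw.isoPullback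
  have e1 : e.hom ≫ pullback.fst f (bc K Ω) = w := hw.isoPullback_hom_fst
  have e2 : e.hom ≫ pullback.snd f (bc K Ω) = fΩ := hw.isoPullback_hom_snd
  have e3 : ∀ σ : Ω ≃ₐ[K] Ω, act σ ≫ e.hom = e.hom ≫ tw f σ := by
    intro σ
    apply pullback.hom_ext
    · rw [Category.assoc, e1, h1, Category.assoc, tw_fst, e1]
    · rw [Category.assoc, e2, h2, Category.assoc, tw_snd, ← Category.assoc, e2]
  have e4 : ∀ σ : Ω ≃ₐ[K] Ω, tw f σ ≫ e.inv = e.inv ≫ act σ := by
    intro σ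
    rw [Iso.eq_inv_comp, ← Category.assoc, ← e3, Category.assoc, e.hom_inv_id, Category.comp_id]
  obtain ⟨L, hL, hLc⟩ := exists_mk (pull e.inv c)
  have : CompactSpace C := (quasiCompact_iff_compactSpace f).mp inferInstance
  have : QuasiSeparatedSpace C := (quasiSeparated_iff_quasiSeparatedSpace f).mp inferInstance
  obtain ⟨M, hM, hM'⟩ := Groth.Agent.Picfga.GaloisDescent.exists_descent_galois (f := f) (k' := Ω) s hs hL (fun σ => by
    have h3 : pull (tw f σ) (mk L hL) = mk L hL := by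
      rw [← hLc, ← pull_comp, e4, pull_comp, hc]
    rw [pull_mk, mk_eq_iff] at h3
    exact h3)
  refine ⟨mk M hM, ?_⟩
  have h4 : pull (pullback.fst f (bc K Ω)) (mk M hM) = mk L hL := by
    rw [pull_mk, mk_eq_iff]
    exact hM'
  rw [← e1, pull_comp, h4, ← hLc, ← pull_comp, e.hom_inv_id, pull_id]

include hH0 in
theorem exists_unit (u : (Γ(C, ⊤))ˣ) : ∃ v : (Γ(Spec (CommRingCat.of K), ⊤))ˣ,
    (u : Γ(C, ⊤)) = f.appTop.hom (v : Γ(Spec (CommRingCat.of K), ⊤)) := by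
  refine ⟨Units.map (inv f.appTop).hom.toMonoidHom u, ?_⟩
  have h := congrArg (fun t => t.hom (u : Γ(C, ⊤))) (IsIso.inv_hom_id f.appTop)
  exact h.symm

/-- Roots of units. -/
theorem exists_root [IsSepClosed Ω] (h : IsIso fΩ.appTop) (n : ℕ) (hn : (n : Ω) ≠ 0) (x : (Γ(CΩ, ⊤))ˣ) :
    ∃ y, y ^ n = x := by
  let e : Ω ≃+* Γ(CΩ, ⊤) :=
    ((Scheme.ΓSpecIso (CommRingCat.of Ω)).symm ≪≫ asIso fΩ.appTop).commRingCatIsoToRingEquiv
  have hn0 : NeZero (n : Ω) := ⟨hn⟩
  obtain ⟨z, hz⟩ := IsSepClosed.exists_pow_nat_eq (e.symm (x : Γ(CΩ, ⊤))) n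
  have hn1 : n ≠ 0 := fun h0 => hn (by rw [h0, Nat.cast_zero])
  have h1 : (e z) ^ n = (x : Γ(CΩ, ⊤)) := by
    rw [← map_pow, hz, RingEquiv.apply_symm_apply]
  have h2 : IsUnit (e z) := by
    rw [← isUnit_pow_iff hn1, h1]
    exact x.isUnit
  obtain ⟨y, hy⟩ := h2
  refine ⟨y, Units.ext ?_⟩
  rw [Units.val_pow_eq_pow_val, hy, h1]

end K372.Gal
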