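import Groth.Agent.LefMon.K372.P1Loc
import Groth.Agent.Lefpen.H370.RhoGeo
import Groth.Agent.Lefpen.H470.PencilSm
import Groth.Agent.Lefpen.H723.P1Simply
import Groth.Agent.Sga4h.CurveHat410
import Groth.Agent.Models.H57.GeoInt
import Groth.Agent.Models.K380.Bir

/-!
# The generic fibre of a Lefschetz pencil on a surface

* `isSmoothProperCurve`: `X'_K ⟶ Spec k(t)` is a smooth proper curve;
* `isIso_appTop`: with `Γ = k(t)` when the pencil has a section.
-/

set_option autoImplicit false
universe u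
open CategoryTheory CategoryTheory.Limits AlgebraicGeometry Opposite TopologicalSpace IsLocalRing

namespace K372.GenFib

open LefPen Groth.Agent Groth.Agent.Lefpen.H723.PencilGeom Groth.Agent.Lefpen.H723.PencilSmooth
  Groth.Agent.Lefpen.H370.RhoGeo Groth.Agent.Lefpen.H717.ProjIrr

section Section

/-- `Γ(C, O) = K` for an integral universally closed scheme over a field with a rational point. -/
theorem isIso_appTop_of_section {K : Type u} [Field K] {C : Scheme.{u}} [IsIntegral C]
    (f : C ⟶ Spec (CommRingCat.of K)) [UniversallyClosed f] (s : Spec (CommRingCat.of K) ⟶ C) (hs : s ≫ f = 𝟙 _) :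
    IsIso f.appTop := by
  have hF := isField_of_universallyClosed K f
  let _ := hF.toField
  have hnt : Nontrivial Γ(Spec (CommRingCat.of K), ⊤) := inferInstance
  have h1 : ∀ x, s.appTop (f.appTop x) = x := fun x => by
    have h := Scheme.Hom.comp_appTop s f
    rw [hs] at h
    have h2 := congrArg (fun t => t.hom x) h
    simpa using h2.symm
  have hinj : Function.Injective s.appTop := s.appTop.hom.injective
  rw [ConcreteCategory.isIso_iff_bijective]
  exact ⟨Function.LeftInverse.injective h1, fun y => ⟨s.appTop y, hinj (h1 _)⟩⟩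

end Section

variable {k : Type u} [Field k] [IsAlgClosed k] {r d : ℕ} {X X' : Scheme.{u}}
  {i : X ⟶ CohB1.ProjSpace r k} {F G : Form r k d} {b : X' ⟶ X} {ρ : X' ⟶ CohB1.ProjSpace 1 k}

variable (ρ) in
/-- The generic fibre. -/
noncomputable abbrev XK : Scheme.{u} := pullback ρ (LefMon.genPt k)

variable (ρ) in
/-- The structure morphism of the generic fibre. -/
noncomputable abbrev fK : XK ρ ⟶ Spec (CommRingCat.of (RatFunc k)) := pullback.snd ρ (LefMon.genPt k)

omit [IsAlgClosed k] in
theorem genPt_eq_genericPoint : Groth.Agent.Sga5.ProjConn.genPt 1 k = genericPoint (CohB1.ProjSpace 1 k) :=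
  (Groth.Agent.Lefpen.H723.P1Simply.genericPoint_eq k).symm

omit [IsAlgClosed k] in
theorem exists_iso_stalk : ∃ e : Spec (CommRingCat.of (RatFunc k)) ≅
    Spec ((CohB1.ProjSpace 1 k).presheaf.stalk (genericPoint (CohB1.ProjSpace 1 k))),
    e.hom ≫ (CohB1.ProjSpace 1 k).fromSpecStalk _ = LefMon.genPt k := by
  obtain ⟨φ, h1, h2⟩ := K372.P1Loc.exists_frac k (genericPoint (CohB1.ProjSpace 1 k))
  let R := (CohB1.ProjSpace 1 k).presheaf.stalk (genericPoint (CohB1.ProjSpace 1 k))
  have hfld : IsField R := Field.toIsField (CohB1.ProjSpace 1 k).functionField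
  let _ : Algebra R (RatFunc k) := φ.toAlgebra
  have hb : Function.Bijective φ := by
    have hsurj := (IsFractionRing.surjective_iff_isField (R := R) (K := RatFunc k)).2 hfld
    exact ⟨IsFractionRing.injective R (RatFunc k), hsurj⟩
  let φ' : (CohB1.ProjSpace 1 k).presheaf.stalk (genericPoint (CohB1.ProjSpace 1 k)) ⟶ CommRingCat.of (RatFunc k) :=
    CommRingCat.ofHom φ
  have : IsIso φ' := (ConcreteCategory.isIso_iff_bijective _).2 hb
  exact ⟨asIso (Spec.map φ'), h1⟩

variable [IsClosedImmersion i] [IrreducibleSpace X] [SmoothOfRelativeDimension 2 (i ≫ CohB1.ProjSpace.toSpec r k)]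
  (hL : IsLefschetzPencil k 2 i d F G) (hρ : LefMon.IsPencilFibration i F G b ρ)

include hL hρ in
omit [IsClosedImmersion i] in
theorem rho_gen [IsIntegral X'] : ρ (genericPoint X') = genericPoint (CohB1.ProjSpace 1 k) := by
  rw [rho_genericPoint (n := 2) hL.2.1 (members_ne_bot (n := 2) hL) hρ]
  exact genPt_eq_genericPoint

include hL hρ in
omit [IsClosedImmersion i] in
theorem isIntegral_XK : IsIntegral (XK ρ) := by
  have h0 : IsIntegral X' := isIntegral_total (n := 2) hL.2.1 hρ
  obtain ⟨e, he⟩ := exists_iso_stalk (k := k)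
  have h1 := K380.Bir.isIntegral_pullback ρ (genericPoint (CohB1.ProjSpace 1 k)) (rho_gen hL hρ)
  let m : XK ρ ⟶ pullback ρ ((CohB1.ProjSpace 1 k).fromSpecStalk (genericPoint (CohB1.ProjSpace 1 k))) :=
    pullback.map _ _ _ _ (𝟙 _) e.hom (𝟙 _) (by simp) (by rw [Category.comp_id, he])
  have hm : IsIso m := inferInstance
  have hne : Nonempty (XK ρ) := by
    obtain ⟨z⟩ := h1.nonempty
    exact ⟨(inv m) z⟩
  exact isIntegral_of_isOpenImmersion m

include hL hρ in
theorem relDim_fK : SmoothOfRelativeDimension 1 (fK ρ) := by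
  have h0 : IsIntegral X' := isIntegral_total (n := 2) hL.2.1 hρ
  have h1 := isProper_rho hρ
  have h2 := locallyOfFinitePresentation_rho hρ
  have h3 : Flat ρ := flat_rho_of_isLefschetzPencil (n := 2) hL hρ
  refine Groth.Agent.Lefpen.H370.SmoothRel.of_forall_smoothLocus (IsPullback.of_hasPullback ρ (LefMon.genPt k)) 1
    (relDim_smoothLocus (n := 2) (by norm_num) hL hρ) fun z => ?_
  refine mem_smoothLocus_of_generic (n := 2) (by norm_num) hL hρ _ ?_
  rw [← Scheme.Hom.comp_apply, pullback.condition, Scheme.Hom.comp_apply, K372.P1Loc.genPt_apply,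
    genPt_eq_genericPoint]

include hL hρ in
/-- **The generic fibre is a smooth proper curve.** -/
theorem isSmoothProperCurve : Curve.IsSmoothProperCurve (RatFunc k) (XK ρ) (fK ρ) := by
  have h1 := isProper_rho hρ
  have h2 := isIntegral_XK hL hρ
  have h3 := relDim_fK hL hρ
  refine ⟨inferInstance, SmoothOfRelativeDimension.smooth 1 _, h2, ?_⟩
  have := Sga4h.CurveHat410.topologicalKrullDim_eq (fK ρ) 1
  exact_mod_cast this

omit [IsAlgClosed k] in
/-- The section of the generic fibre. -/
theorem exists_section_K (s : CohB1.ProjSpace 1 k ⟶ X') (hs : s ≫ ρ = 𝟙 _) :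
    ∃ sK : Spec (CommRingCat.of (RatFunc k)) ⟶ XK ρ, sK ≫ fK ρ = 𝟙 _ ∧
      sK ≫ pullback.fst ρ (LefMon.genPt k) = LefMon.genPt k ≫ s :=
  ⟨pullback.lift (LefMon.genPt k ≫ s) (𝟙 _) (by rw [Category.assoc, hs, Category.comp_id, Category.id_comp]),
    pullback.lift_snd _ _ _, pullback.lift_fst _ _ _⟩

include hL hρ in
theorem isIso_appTop (sK : Spec (CommRingCat.of (RatFunc k)) ⟶ XK ρ) (hsK : sK ≫ fK ρ = 𝟙 _) :
    IsIso (fK ρ).appTop := by
  have h1 := isProper_rho hρ
  have h2 := isIntegral_XK hL hρ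
  exact isIso_appTop_of_section (fK ρ) sK hsK

end K372.GenFib
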