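import Groth.Agent.S3105
import Groth.Agent.Etbc.H228.CompLow
import Groth.Agent.Etcore.HC

/-!
# `H¹(Y, M) → H¹(κ(η), M)` is injective for a normal integral scheme

* `injective_HC_generic`, `eq_zero_of_factor`.
-/

set_option autoImplicit false
universe u
open CategoryTheory CategoryTheory.Limits AlgebraicGeometry Opposite Abelian
open scoped Groth.Agent.Etcore.EtInst Groth.Agent.Etcore.HC
open Groth.Agent.Etcore.EtInst Groth.Agent.Etcore.HpullCalc
open Groth.Agent.Etcore.HC

namespace K372.GenInj

variable {Y : Scheme.{u}} [IsIntegral Y] (hY : Pi1.IsNormalScheme Y) (M : Type) [AddCommGroup M]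

include hY in
theorem injective_HC_generic :
    Function.Injective (HC M (Y.fromSpecResidueField (genericPoint Y)) 1) := by
  have h0 := Groth.Agent.S3105.result Y hY M
  have h1 := (Groth.Agent.Etbc.H228.CompLow.Hpull_low (Y.fromSpecResidueField (genericPoint Y)) (EtCoh.const Y M) 0
    (fun q h1 h2 => absurd h2 (by omega))).2
  rw [injective_HC_iff]
  exact h1

include hY in
theorem eq_zero_of_factor {C : Scheme.{u}} (g : C ⟶ Y) (t : Spec (Y.residueField (genericPoint Y)) ⟶ C)
    (ht : t ≫ g = Y.fromSpecResidueField (genericPoint Y)) (z : HH Y (EtCoh.const Y M) 1)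
    (hz : HC M g 1 z = 0) : z = 0 := by
  apply injective_HC_generic hY M
  rw [map_zero, ← HC_HC M t g _ ht, hz, map_zero]

end K372.GenInj
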