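import Mathlib.AlgebraicGeometry.FunctionField
import Mathlib.AlgebraicGeometry.Stalk
import Mathlib.RingTheory.Localization.FractionRing

/-!
# The spectrum of the fraction field of an affine chart as the generic point

`S` integral, `j : Spec A ⟶ S` an open immersion, `K` a fraction field of `A`, `gp j : Spec K ⟶ S`:
* `gp_apply : gp j y = genericPoint S`;
* `exists_frac`: for `p : S`, `gp` factors through `Spec O_{S,p}` by a ring map making `K` a fraction field of `O_{S,p}`.
-/

set_option autoImplicit false
universe u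
open CategoryTheory CategoryTheory.Limits AlgebraicGeometry Opposite TopologicalSpace IsLocalRing

namespace K372.GenPt

variable {S : Scheme.{u}} [IsIntegral S] {A : Type u} [CommRing A] [IsDomain A] (K : Type u) [Field K] [Algebra A K]
  [IsFractionRing A K] (j : Spec (CommRingCat.of A) ⟶ S) [IsOpenImmersion j]

/-- `Spec K ⟶ S`. -/
noncomputable abbrev gp : Spec (CommRingCat.of K) ⟶ S := Spec.map (CommRingCat.ofHom (algebraMap A K)) ≫ j

theorem gp_apply (y : Spec (CommRingCat.of K)) : gp K j y = genericPoint S := by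
  have : IsDomain (CommRingCat.of A) := inferInstanceAs (IsDomain A)
  rw [Scheme.Hom.comp_apply, ← genericPoint_eq_of_isOpenImmersion j, genericPoint_eq_bot_of_affine]
  congr 1
  apply PrimeSpectrum.ext
  change Ideal.comap (algebraMap A K) (PrimeSpectrum.asIdeal y) = ⊥
  have h1 : PrimeSpectrum.asIdeal y = ⊥ := by
    have h2 : (PrimeSpectrum.asIdeal y).IsPrime := PrimeSpectrum.isPrime (R := K) y
    exact (Ideal.eq_bot_or_top (K := K) _).resolve_right h2.ne_top
  rw [h1, ← RingHom.ker_eq_comap_bot, (RingHom.injective_iff_ker_eq_bot _).1 (IsFractionRing.injective A K)]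

/-- The induced map from the generic stalk. -/
noncomputable abbrev th : S.presheaf.stalk (gp K j (closedPoint K)) ⟶ CommRingCat.of K :=
  Scheme.stalkClosedPointTo (gp K j)

omit [IsIntegral S] in
theorem surjective_th : Function.Surjective (th K j).hom := by
  intro z
  obtain ⟨a, b, hb, rfl⟩ := IsFractionRing.div_surjective (A := A) z
  have hb0 : algebraMap A K b ≠ 0 := by
    rw [Ne, map_eq_zero_iff _ (IsFractionRing.injective A K)]
    exact nonZeroDivisors.ne_zero hb
  let g := Spec.map (CommRingCat.ofHom (algebraMap A K))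
  have h1 : ∀ a : A, (Scheme.stalkClosedPointTo g).hom
      ((Spec (CommRingCat.of A)).presheaf.germ ⊤ _ trivial ((Scheme.ΓSpecIso (CommRingCat.of A)).inv a)) =
        algebraMap A K a := by
    intro a
    have h := Scheme.germ_stalkClosedPointTo_Spec (CommRingCat.ofHom (algebraMap A K))
    have h' := congrArg (fun t => t.hom ((Scheme.ΓSpecIso (CommRingCat.of A)).inv a)) h
    simp only [CommRingCat.hom_comp, RingHom.comp_apply] at h'
    refine h'.trans ?_
    have h3 : (Scheme.ΓSpecIso (CommRingCat.of A)).hom.hom ((Scheme.ΓSpecIso (CommRingCat.of A)).inv a) = a := by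
      have := congrArg (fun t => t.hom a) (Scheme.ΓSpecIso (CommRingCat.of A)).inv_hom_id
      exact this
    rw [h3]
    rfl
  let tb := (Spec (CommRingCat.of A)).presheaf.germ ⊤ (g (closedPoint K)) trivial
    ((Scheme.ΓSpecIso (CommRingCat.of A)).inv b)
  let ta := (Spec (CommRingCat.of A)).presheaf.germ ⊤ (g (closedPoint K)) trivial
    ((Scheme.ΓSpecIso (CommRingCat.of A)).inv a)
  have hu : IsUnit tb := by
    have hl : IsLocalHom (Scheme.stalkClosedPointTo g).hom := inferInstance
    apply hl.map_nonunit
    have := h1 b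
    change IsUnit ((Scheme.stalkClosedPointTo g).hom tb)
    rw [this]
    exact hb0.isUnit
  obtain ⟨v, hv⟩ := hu
  have hiso : IsIso (j.stalkMap (g (closedPoint K))) := inferInstance
  obtain ⟨w, hw⟩ := (ConcreteCategory.bijective_of_isIso (j.stalkMap (g (closedPoint K)))).2
    (ta * (v⁻¹ : _ˣ))
  refine ⟨w, ?_⟩
  have h2 : (th K j).hom w = (Scheme.stalkClosedPointTo g).hom (j.stalkMap (g (closedPoint K)) w) := by
    have := congrArg (fun t => t.hom w) (Scheme.stalkClosedPointTo_comp (f := g) j)
    exact this
  rw [h2, hw, map_mul]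
  have h3 : (Scheme.stalkClosedPointTo g).hom ((v⁻¹ : _ˣ) : (Spec (CommRingCat.of A)).presheaf.stalk (g (closedPoint K))) =
      (algebraMap A K b)⁻¹ := by
    rw [← h1 b]
    change _ = ((Scheme.stalkClosedPointTo g).hom tb)⁻¹
    rw [← hv]
    exact eq_inv_of_mul_eq_one_left (by rw [← map_mul, Units.inv_mul, map_one])
  rw [h3, div_eq_mul_inv]
  congr 1
  exact h1 a

theorem exists_frac (p : S) : ∃ φ : S.presheaf.stalk p →+* K,
    Spec.map (CommRingCat.ofHom φ) ≫ S.fromSpecStalk p = gp K j ∧
      @IsFractionRing (S.presheaf.stalk p) _ K _ φ.toAlgebra := by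
  have hg := gp_apply K j (closedPoint K)
  have hsp : gp K j (closedPoint K) ⤳ p := by
    rw [hg]
    exact (genericPoint_spec S).specializes trivial
  let φ : S.presheaf.stalk p →+* K := (th K j).hom.comp (S.presheaf.stalkSpecializes hsp).hom
  refine ⟨φ, ?_, ?_⟩
  · have h1 : CommRingCat.ofHom φ = S.presheaf.stalkSpecializes hsp ≫ th K j := rfl
    rw [h1, Spec.map_comp, Category.assoc, Scheme.SpecMap_stalkSpecializes_fromSpecStalk]
    exact Scheme.Spec_stalkClosedPointTo_fromSpecStalk (gp K j)
  · let _ : Algebra (S.presheaf.stalk p) K := φ.toAlgebra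
    have key : ∀ (y : S) (hy : y = genericPoint S) (h : y ⤳ p),
        Function.Injective (S.presheaf.stalkSpecializes h).hom ∧
        ∀ z : S.presheaf.stalk y, ∃ a b, (S.presheaf.stalkSpecializes h).hom b ≠ 0 ∧
          z * (S.presheaf.stalkSpecializes h).hom b = (S.presheaf.stalkSpecializes h).hom a := by
      intro y hy h
      subst hy
      refine ⟨IsFractionRing.injective (S.presheaf.stalk p) S.functionField, fun z => ?_⟩
      obtain ⟨a, b, hb, rfl⟩ := IsFractionRing.div_surjective (A := S.presheaf.stalk p) (K := S.functionField) z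
      have hb0 : algebraMap (S.presheaf.stalk p) S.functionField b ≠ 0 := by
        rw [Ne, map_eq_zero_iff _ (IsFractionRing.injective (S.presheaf.stalk p) S.functionField)]
        exact nonZeroDivisors.ne_zero hb
      exact ⟨a, b, hb0, div_mul_cancel₀ _ hb0⟩
    obtain ⟨hinj, hsurj⟩ := key _ hg hsp
    have hyne : ∀ t : S.presheaf.stalk (gp K j (closedPoint K)), t ≠ 0 → (th K j).hom t ≠ 0 := by
      intro t ht h0
      obtain ⟨y, hy⟩ : ∃ y, y = genericPoint S ∧ y = gp K j (closedPoint K) := ⟨_, rfl, hg.symm⟩
      have hfld : ∀ (y : S) (hy : y = genericPoint S) (t : S.presheaf.stalk y), t ≠ 0 → IsUnit t := by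
        intro y hy t ht
        subst hy
        exact (IsUnit.mk0 (G₀ := S.functionField) t ht)
      have hu := (hfld _ hg t ht).map (th K j).hom
      rw [h0] at hu
      exact not_isUnit_zero hu
    have hφinj : Function.Injective φ := by
      rw [injective_iff_map_eq_zero]
      intro a ha
      by_contra hne
      exact hyne _ (fun h => hne (hinj (by rw [h, map_zero]))) ha
    have : FaithfulSMul (S.presheaf.stalk p) K := (faithfulSMul_iff_algebraMap_injective _ _).2 hφinj
    refine IsFractionRing.of_field _ _ fun z => ?_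
    obtain ⟨z', rfl⟩ := surjective_th K j z
    obtain ⟨a, b, hb, hab⟩ := hsurj z'
    refine ⟨a, b, ?_⟩
    change (th K j).hom z' = (th K j).hom ((S.presheaf.stalkSpecializes hsp).hom a) /
      (th K j).hom ((S.presheaf.stalkSpecializes hsp).hom b)
    rw [eq_div_iff (hyne _ hb), ← map_mul, hab]

end K372.GenPt
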