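import Groth.Agent.Lefpen.H719.MVConst
import Groth.Agent.Etcore.HC
import Mathlib.Topology.NoetherianSpace

/-!
# Glueing of classes of degree one with constant coefficients over the base

`ρ : X' ⟶ S` with a section `s`, `q : Cb ⟶ X'` (geometric generic fibre over `Spec Ω ⟶ S`):
* `exists_glue`: Mayer–Vietoris;
* `ExtOn V`: the class `x` on `Cb` extends to `ρ⁻¹ V`; `extOn_sup`, `extOn_top`.
-/

set_option autoImplicit false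
universe u
open CategoryTheory CategoryTheory.Limits AlgebraicGeometry Opposite Abelian TopologicalSpace
open scoped Groth.Agent.Etcore.EtInst Groth.Agent.Etcore.HC
open Groth.Agent.Etcore.EtInst Groth.Agent.Etcore.HpullCalc
open Groth.Agent.Etcore.HC

namespace K372.Glue

/-- Mayer–Vietoris: glueing. -/
theorem exists_glue {X U V W : Scheme.{u}} (j : U ⟶ X) (k : V ⟶ X) (w : W ⟶ X) (a : W ⟶ U) (b : W ⟶ V) (ha : a ≫ j = w)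
    (hb : b ≫ k = w) [IsOpenImmersion j] [IsOpenImmersion k] [IsOpenImmersion w]
    (hW : Set.range w = Set.range j ∩ Set.range k) (hcov : Set.range j ∪ Set.range k = Set.univ)
    (M : Type) [AddCommGroup M] (n : ℕ) (zU : HH U (EtCoh.const U M) n) (zV : HH V (EtCoh.const V M) n)
    (h : HC M a n zU = HC M b n zV) :
    ∃ z : HH X (EtCoh.const X M) n, HC M j n z = zU ∧ HC M k n z = zV := by
  obtain ⟨δ, -, -, h3, -⟩ := Groth.Agent.Lefpen.H719.MVConst.mv j k w a b ha hb hW hcov M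
  have h4 := h3 n
  have h5 : ((zU, zV) : Groth.Agent.Lefpen.H719.MVConst.HC U M n × Groth.Agent.Lefpen.H719.MVConst.HC V M n) ∈
      ((Groth.Agent.Lefpen.H719.MVConst.resC a M n).comp (AddMonoidHom.fst _ _) -
        (Groth.Agent.Lefpen.H719.MVConst.resC b M n).comp (AddMonoidHom.snd _ _)).ker := by
    rw [AddMonoidHom.mem_ker]
    exact sub_eq_zero.2 h
  rw [h4] at h5
  obtain ⟨z, hz⟩ := h5
  exact ⟨z, congrArg Prod.fst hz, congrArg Prod.snd hz⟩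

section Ext

variable {S X' Cb P : Scheme.{u}} (ρ : X' ⟶ S) (s : S ⟶ X') (hs : s ≫ ρ = 𝟙 S)
  (c : Cb ⟶ P) (d : P ⟶ S) (q : Cb ⟶ X') (hq : q ≫ ρ = c ≫ d) (M : Type) [AddCommGroup M]
  (hH : Subsingleton (HH P (EtCoh.const P M) 1))
  (x : HH Cb (EtCoh.const Cb M) 1)

/-- The class `x` on `Cb` extends to `ρ⁻¹ V`. -/
def ExtOn (V : S.Opens) : Prop :=
  ∃ z : HH (ρ ⁻¹ᵁ V : Scheme.{u}) (EtCoh.const _ M) 1, ∀ j : Cb ⟶ (ρ ⁻¹ᵁ V : Scheme.{u}),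
    j ≫ (ρ ⁻¹ᵁ V).ι = q → HC M j 1 z = x

/-- The section over `V`. -/
noncomputable def sV (V : S.Opens) : (V : Scheme.{u}) ⟶ (ρ ⁻¹ᵁ V : Scheme.{u}) :=
  IsOpenImmersion.lift (ρ ⁻¹ᵁ V).ι (V.ι ≫ s) (by
    rw [Scheme.Opens.range_ι]
    rintro _ ⟨y, rfl⟩
    change ρ ((V.ι ≫ s) y) ∈ V
    rw [← Scheme.Hom.comp_apply, Category.assoc, hs, Category.comp_id]
    exact y.2)

theorem sV_ι (V : S.Opens) : sV ρ s hs V ≫ (ρ ⁻¹ᵁ V).ι = V.ι ≫ s := IsOpenImmersion.lift_fac _ _ _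

theorem sV_π (V : S.Opens) : sV ρ s hs V ≫ ρ ∣_ V = 𝟙 _ := by
  rw [← cancel_mono V.ι, Category.assoc, morphismRestrict_ι, ← Category.assoc, sV_ι, Category.assoc, hs,
    Category.comp_id, Category.id_comp]

/-- Uniqueness over `V`. -/
def UniqOn (V : S.Opens) : Prop :=
  ∀ z : HH (ρ ⁻¹ᵁ V : Scheme.{u}) (EtCoh.const _ M) 1, HC M (sV ρ s hs V) 1 z = 0 →
    (∀ j : Cb ⟶ (ρ ⁻¹ᵁ V : Scheme.{u}), j ≫ (ρ ⁻¹ᵁ V).ι = q → HC M j 1 z = 0) → z = 0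

include hq hH in
/-- Normalization along the section. -/
theorem exists_normalized (V : S.Opens) (hV : ∀ y : P, d y ∈ V) (h : ExtOn ρ q M x V) :
    ∃ z : HH (ρ ⁻¹ᵁ V : Scheme.{u}) (EtCoh.const _ M) 1, HC M (sV ρ s hs V) 1 z = 0 ∧
      ∀ j : Cb ⟶ (ρ ⁻¹ᵁ V : Scheme.{u}), j ≫ (ρ ⁻¹ᵁ V).ι = q → HC M j 1 z = x := by
  obtain ⟨z, hz⟩ := h
  refine ⟨z - HC M (ρ ∣_ V) 1 (HC M (sV ρ s hs V) 1 z), ?_, fun j hj => ?_⟩
  · rw [map_sub, HC_HC M _ _ _ (sV_π ρ s hs V), HC_id, sub_self]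
  · rw [map_sub, hz j hj]
    let d' : P ⟶ (V : Scheme.{u}) := IsOpenImmersion.lift V.ι d (by
      rw [Scheme.Opens.range_ι]
      rintro _ ⟨y, rfl⟩
      exact hV y)
    have hd' : d' ≫ V.ι = d := IsOpenImmersion.lift_fac _ _ _
    have h1 : j ≫ ρ ∣_ V = c ≫ d' := by
      rw [← cancel_mono V.ι, Category.assoc, morphismRestrict_ι, ← Category.assoc, hj, hq, Category.assoc, hd']
    rw [HC_HC M j (ρ ∣_ V) (c ≫ d') h1, ← HC_HC M c d' (c ≫ d') rfl,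
      Subsingleton.elim (HC M d' 1 (HC M (sV ρ s hs V) 1 z)) 0, map_zero, sub_zero]

include hq hH in
theorem extOn_sup (V₁ V₂ : S.Opens) (hV₁ : ∀ y : P, d y ∈ V₁) (hV₂ : ∀ y : P, d y ∈ V₂)
    (hu : UniqOn ρ s hs q M (V₁ ⊓ V₂)) (h₁ : ExtOn ρ q M x V₁) (h₂ : ExtOn ρ q M x V₂) :
    ExtOn ρ q M x (V₁ ⊔ V₂) := by
  obtain ⟨z₁, hz₁, hx₁⟩ := exists_normalized ρ s hs c d q hq M hH x V₁ hV₁ h₁
  obtain ⟨z₂, hz₂, hx₂⟩ := exists_normalized ρ s hs c d q hq M hH x V₂ hV₂ h₂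
  let a : (ρ ⁻¹ᵁ (V₁ ⊓ V₂) : Scheme.{u}) ⟶ (ρ ⁻¹ᵁ V₁ : Scheme.{u}) :=
    X'.homOfLE (ρ.preimage_mono (inf_le_left : V₁ ⊓ V₂ ≤ V₁))
  let b : (ρ ⁻¹ᵁ (V₁ ⊓ V₂) : Scheme.{u}) ⟶ (ρ ⁻¹ᵁ V₂ : Scheme.{u}) :=
    X'.homOfLE (ρ.preimage_mono (inf_le_right : V₁ ⊓ V₂ ≤ V₂))
  let j₁ : (ρ ⁻¹ᵁ V₁ : Scheme.{u}) ⟶ (ρ ⁻¹ᵁ (V₁ ⊔ V₂) : Scheme.{u}) :=
    X'.homOfLE (ρ.preimage_mono (le_sup_left : V₁ ≤ V₁ ⊔ V₂))
  let j₂ : (ρ ⁻¹ᵁ V₂ : Scheme.{u}) ⟶ (ρ ⁻¹ᵁ (V₁ ⊔ V₂) : Scheme.{u}) :=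
    X'.homOfLE (ρ.preimage_mono (le_sup_right : V₂ ≤ V₁ ⊔ V₂))
  let w : (ρ ⁻¹ᵁ (V₁ ⊓ V₂) : Scheme.{u}) ⟶ (ρ ⁻¹ᵁ (V₁ ⊔ V₂) : Scheme.{u}) :=
    X'.homOfLE (ρ.preimage_mono (inf_le_left.trans le_sup_left))
  have haι : a ≫ (ρ ⁻¹ᵁ V₁).ι = (ρ ⁻¹ᵁ (V₁ ⊓ V₂)).ι := X'.homOfLE_ι _
  have hbι : b ≫ (ρ ⁻¹ᵁ V₂).ι = (ρ ⁻¹ᵁ (V₁ ⊓ V₂)).ι := X'.homOfLE_ι _
  have hsa : sV ρ s hs (V₁ ⊓ V₂) ≫ a = S.homOfLE inf_le_left ≫ sV ρ s hs V₁ := by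
    rw [← cancel_mono (ρ ⁻¹ᵁ V₁).ι, Category.assoc, haι, sV_ι, Category.assoc, sV_ι, Scheme.homOfLE_ι_assoc]
  have hsb : sV ρ s hs (V₁ ⊓ V₂) ≫ b = S.homOfLE inf_le_right ≫ sV ρ s hs V₂ := by
    rw [← cancel_mono (ρ ⁻¹ᵁ V₂).ι, Category.assoc, hbι, sV_ι, Category.assoc, sV_ι, Scheme.homOfLE_ι_assoc]
  have key : HC M a 1 z₁ = HC M b 1 z₂ := by
    rw [← sub_eq_zero]
    refine hu _ ?_ fun j hj => ?_
    · rw [map_sub, HC_HC M _ a _ hsa, ← HC_HC M (S.homOfLE inf_le_left) (sV ρ s hs V₁) _ rfl, hz₁, map_zero,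
        HC_HC M _ b _ hsb, ← HC_HC M (S.homOfLE inf_le_right) (sV ρ s hs V₂) _ rfl, hz₂, map_zero, sub_zero]
    · rw [map_sub, HC_HC M j a _ rfl, HC_HC M j b _ rfl, hx₁ (j ≫ a) (by rw [Category.assoc, haι, hj]),
        hx₂ (j ≫ b) (by rw [Category.assoc, hbι, hj]), sub_self]
  have hr : ∀ {A B : X'.Opens} (h : A ≤ B), Set.range (X'.homOfLE h) = B.ι ⁻¹' (A : Set X') := by
    intro A B h
    ext z
    constructor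
    · rintro ⟨y, rfl⟩
      change B.ι (X'.homOfLE h y) ∈ A
      rw [← Scheme.Hom.comp_apply, Scheme.homOfLE_ι]
      exact y.2
    · intro hz
      refine ⟨⟨B.ι z, hz⟩, ?_⟩
      apply B.ι.isOpenEmbedding.injective
      rw [← Scheme.Hom.comp_apply, Scheme.homOfLE_ι]
      rfl
  obtain ⟨z, hz1, hz2⟩ := exists_glue j₁ j₂ w a b (X'.homOfLE_homOfLE _ _) (X'.homOfLE_homOfLE _ _) (by
      rw [hr, hr, hr]
      ext z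
      rfl) (by
      rw [hr, hr]
      refine Set.eq_univ_of_forall fun z => ?_
      rcases z.2 with h | h
      · exact Or.inl h
      · exact Or.inr h) M 1 z₁ z₂ key
  refine ⟨z, fun j hj => ?_⟩
  have hjr : Set.range j ⊆ Set.range j₁ := by
    rw [hr]
    rintro _ ⟨y, rfl⟩
    have h7 : ρ ((ρ ⁻¹ᵁ (V₁ ⊔ V₂)).ι (j y)) = d (c y) := by
      rw [← Scheme.Hom.comp_apply (ρ ⁻¹ᵁ (V₁ ⊔ V₂)).ι ρ, ← Scheme.Hom.comp_apply j, ← Category.assoc, hj, hq,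
        Scheme.Hom.comp_apply]
    change ρ ((ρ ⁻¹ᵁ (V₁ ⊔ V₂)).ι (j y)) ∈ V₁
    rw [h7]
    exact hV₁ _
  let j' := IsOpenImmersion.lift j₁ j hjr
  have hj' : j' ≫ j₁ = j := IsOpenImmersion.lift_fac _ _ _
  rw [← HC_HC M j' j₁ j hj', hz1]
  refine hx₁ j' ?_
  rw [← hj, ← hj', Category.assoc]
  congr 1
  exact (X'.homOfLE_ι _).symm

include hq hH in
/-- **Globalization.** -/
theorem extOn_top [NoetherianSpace S] (hne : Nonempty P) (hgen : ∀ V : S.Opens, (V : Set S).Nonempty → ∀ y : P, d y ∈ V)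
    (hu : ∀ V : S.Opens, (V : Set S).Nonempty → UniqOn ρ s hs q M V)
    (hloc : ∀ p : S, ∃ V : S.Opens, p ∈ V ∧ ExtOn ρ q M x V) : ExtOn ρ q M x ⊤ := by
  obtain ⟨y₀⟩ := hne
  let A : Set S.Opens := {V | (V : Set S).Nonempty ∧ ExtOn ρ q M x V}
  have hA : A.Nonempty := by
    obtain ⟨V, hV, hE⟩ := hloc (d y₀)
    exact ⟨V, ⟨_, hV⟩, hE⟩
  have hwf : WellFounded ((· > ·) : S.Opens → S.Opens → Prop) := IsWellFounded.wf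
  obtain ⟨V, ⟨hVn, hV⟩, hmax⟩ := hwf.has_min A hA
  have htop : V = ⊤ := by
    rw [eq_top_iff]
    intro p _
    by_contra hp
    obtain ⟨V', hpV', hE'⟩ := hloc p
    have hn' : (V' : Set S).Nonempty := ⟨p, hpV'⟩
    have h1 : ((V ⊓ V' : S.Opens) : Set S).Nonempty := ⟨d y₀, hgen V hVn y₀, hgen V' hn' y₀⟩
    have h2 : ExtOn ρ q M x (V ⊔ V') :=
      extOn_sup ρ s hs c d q hq M hH x V V' (hgen V hVn) (hgen V' hn') (hu _ h1) hV hE'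
    refine hmax (V ⊔ V') ⟨⟨p, Or.inr hpV'⟩, h2⟩ ?_
    refine lt_of_le_of_ne le_sup_left fun h => hp ?_
    rw [h]
    exact Or.inr hpV'
  rw [← htop]
  exact hV

end Ext

end K372.Glue
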