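import Groth.Agent.LefMon.K372.Bad
import Groth.Agent.Lefpen.H716.CIGeom
import Groth.Agent.S2803
import Groth.Agent.Sga4h.CurveHat410
import Mathlib.AlgebraicGeometry.AlgClosed.Basic

/-!
# A Lefschetz pencil on a surface has a section

* `nonempty_base`: the base locus is nonempty;
* `exists_section`: `ρ : X' ⟶ P^1` has a section (the exceptional curve over a base point).
-/

set_option autoImplicit false
universe u
open CategoryTheory CategoryTheory.Limits AlgebraicGeometry Opposite TopologicalSpace IsLocalRing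

namespace K372.Sect

open LefPen Groth.Agent Groth.Agent.Lefpen.H723.PencilGeom Groth.Agent.Lefpen.H723.PencilSmooth
  Groth.Agent.Lefpen.H723.P1Pt Groth.Agent.Lefpen.H370.RhoGeo Groth.Agent.Lefpen.H716.CIGeom

section General

/-- Factorization of a morphism from a reduced scheme through a closed subscheme containing its image. -/
theorem exists_lift {Z X T : Scheme.{u}} (i : Z ⟶ X) [IsClosedImmersion i] (t : T ⟶ X) [IsReduced T]
    (h : Set.range t ⊆ Set.range i) : ∃ t' : T ⟶ Z, t' ≫ i = t := by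
  have h1 : Surjective (pullback.snd i t) := by
    refine ⟨fun y => ?_⟩
    have h2 : y ∈ Set.range (pullback.snd i t) := by
      rw [Scheme.Pullback.range_snd]
      exact h ⟨y, rfl⟩
    exact h2
  have h2 : IsIso (pullback.snd i t) := isIso_of_isClosedImmersion_of_surjective _
  exact ⟨inv (pullback.snd i t) ≫ pullback.fst i t, by rw [Category.assoc, pullback.condition, IsIso.inv_hom_id_assoc]⟩

/-- A proper morphism to a reduced Jacobson scheme all of whose closed fibres are isomorphic to the base point is an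
isomorphism. -/
theorem isIso_of_closed_fibres {E P : Scheme.{u}} (f : E ⟶ P) [IsProper f] [JacobsonSpace P] [IsReduced P]
    (h : ∀ y : P, IsClosed ({y} : Set P) → IsIso (f.fiberToSpecResidueField y)) : IsIso f := by
  have h1 : ∀ y : P, IsClosed ({y} : Set P) → ∃ U : P.Opens, y ∈ U ∧ IsClosedImmersion (f ∣_ U) := by
    intro y hy
    exact (Groth.Agent.S2803.result f y).2 ⟨Or.inr (h y hy), ⊤, trivial, inferInstance⟩
  have hcov : ∀ Z : Set P, IsLocallyClosed Z → (∀ y : P, IsClosed ({y} : Set P) → y ∉ Z) → Z = ∅ := by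
    intro Z hZ hc
    by_contra hne
    obtain ⟨y, hy, hyc⟩ := nonempty_inter_closedPoints (Z := Z) (Set.nonempty_iff_ne_empty.2 hne) hZ
    exact hc y ((mem_closedPoints_iff).1 hyc) hy
  choose U hU hU' using h1
  let V : {y : P // IsClosed ({y} : Set P)} → P.Opens := fun y => U y.1 y.2
  have hV : iSup V = ⊤ := by
    apply Opens.ext
    have h2 := hcov ((iSup V : P.Opens) : Set P)ᶜ (iSup V).2.isClosed_compl.isLocallyClosed (fun y hy hn =>
      hn (Opens.mem_iSup.2 ⟨⟨y, hy⟩, hU y hy⟩))
    exact Set.compl_empty_iff.1 h2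
  have h3 : IsClosedImmersion f := by
    rw [IsZariskiLocalAtTarget.iff_of_iSup_eq_top (P := @IsClosedImmersion.{u}) V hV]
    exact fun y => hU' y.1 y.2
  have h4 : Surjective f := by
    have h6 : IsClosed (Set.range f) := f.isClosedEmbedding.isClosed_range
    have h5 := hcov (Set.range f)ᶜ h6.isOpen_compl.isLocallyClosed (fun y hy hn => hn (by
      have h7 := h y hy
      let z : f.fiber y := (inv (f.fiberToSpecResidueField y)) (closedPoint (P.residueField y))
      have h8 : f.fiberι y z ∈ f ⁻¹' {y} := by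
        rw [← f.range_fiberι y]
        exact ⟨z, rfl⟩
      exact ⟨_, h8⟩))
    exact ⟨Set.range_eq_univ.1 (Set.compl_empty_iff.1 h5)⟩
  exact isIso_of_isClosedImmersion_of_surjective f

end General

variable {k : Type u} [Field k] [IsAlgClosed k] {r d : ℕ} {X X' : Scheme.{u}}
  {i : X ⟶ CohB1.ProjSpace r k} {F G : Form r k d} {b : X' ⟶ X} {ρ : X' ⟶ CohB1.ProjSpace 1 k}

omit [IsAlgClosed k] in
/-- Membership in the support of the ideal of a hypersurface. -/
theorem mem_support_iff (G : Form r k d) (x : CohB1.ProjSpace r k) :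
    x ∈ (hypIdeal G).support ↔ G.1 ∈ (ProjectiveSpectrum.asHomogeneousIdeal x).toIdeal := by
  rw [mem_support_hypIdeal_iff]
  exact not_not

omit [IsAlgClosed k] in
theorem mem_support_sec (s : Set (Form r k d)) (x : X) :
    x ∈ (secIdeal i s).support ↔
      ∀ H ∈ s, H.1 ∈ (ProjectiveSpectrum.asHomogeneousIdeal (i x)).toIdeal := by
  rw [secIdeal, Scheme.IdealSheafData.support_comap]
  change i x ∈ (⨆ G ∈ s, hypIdeal G).support ↔ _
  rw [← iSup_subtype'' s (fun G => hypIdeal G), mem_support_iSup_iff]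
  constructor
  · exact fun h H hH => (mem_support_iff H (i x)).1 (h ⟨H, hH⟩)
  · exact fun h H => (mem_support_iff H.1 (i x)).2 (h H.1 H.2)


/-- If the base change along a rational point is an isomorphism, so is the fibre. -/
theorem isIso_fiber {k : Type u} [Field k] {E P : Scheme.{u}} (f : E ⟶ P) (y : P) (p : Spec (CommRingCat.of k) ⟶ P)
    [IsClosedImmersion p] (hy : y ∈ Set.range p) (h : IsIso (pullback.snd f p)) :
    IsIso (f.fiberToSpecResidueField y) := by
  obtain ⟨e, he⟩ := exists_lift p (P.fromSpecResidueField y) (by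
    rw [Scheme.range_fromSpecResidueField]
    exact Set.singleton_subset_iff.2 hy)
  have h1 : IsPullback (pullback.fst (pullback.snd f p) e ≫ pullback.fst f p) (pullback.snd (pullback.snd f p) e) f
      (e ≫ p) := (IsPullback.of_hasPullback (pullback.snd f p) e).paste_horiz (IsPullback.of_hasPullback f p)
  rw [he] at h1
  have h2 : f.fiberToSpecResidueField y = h1.isoPullback.inv ≫ pullback.snd (pullback.snd f p) e :=
    h1.isoPullback_inv_snd.symm
  have h3 : IsIso (pullback.snd (pullback.snd f p) e) := pullback_snd_iso_of_left_iso _ _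
  rw [h2]
  exact IsIso.comp_isIso' inferInstance h3

/-- **The exceptional curve over a base point is a section.** -/
theorem exists_section_of_point [IsClosedImmersion i] (hsurj : Function.Surjective ρ)
    (hρ : LefMon.IsPencilFibration i F G b ρ) (x : X) (hx : IsClosed ({x} : Set X))
    (hxF : F.1 ∈ (ProjectiveSpectrum.asHomogeneousIdeal (i x)).toIdeal)
    (hxG : G.1 ∈ (ProjectiveSpectrum.asHomogeneousIdeal (i x)).toIdeal) :
    ∃ s : CohB1.ProjSpace 1 k ⟶ X', s ≫ ρ = 𝟙 _ := by
  have hpρ := isProper_rho hρ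
  have hP1 := Groth.Agent.Ega3B.ProjProper.isProper_toSpec 1 k
  have hPr := Groth.Agent.Ega3B.ProjProper.isProper_toSpec r k
  have hJ : JacobsonSpace (CohB1.ProjSpace 1 k) := LocallyOfFiniteType.jacobsonSpace (CohB1.ProjSpace.toSpec 1 k)
  let xk : Spec (CommRingCat.of k) ⟶ X := pointOfClosedPoint (i ≫ CohB1.ProjSpace.toSpec r k) x hx
  have hxk : xk ≫ i ≫ CohB1.ProjSpace.toSpec r k = 𝟙 _ := pointOfClosedPoint_comp _ _ _
  have hxk' : ∀ a, xk a = x := pointOfClosedPoint_apply _ _ _
  have hcl : IsClosedImmersion xk := by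
    have h1 : IsClosedImmersion (xk ≫ i ≫ CohB1.ProjSpace.toSpec r k) := by rw [hxk]; infer_instance
    exact IsClosedImmersion.of_comp xk (i ≫ CohB1.ProjSpace.toSpec r k)
  let e1 := pullback.fst b xk
  let e2 := pullback.snd b xk
  have hA : IsPullback e1 e2 b xk := IsPullback.of_hasPullback _ _
  have key : ∀ y : CohB1.ProjSpace 1 k, IsClosed ({y} : Set (CohB1.ProjSpace 1 k)) →
      IsIso ((e1 ≫ ρ).fiberToSpecResidueField y) := by
    intro y hy
    obtain ⟨H, hH, j, c, m, hm, hB, hr⟩ := exists_fibre hρ y hy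
    obtain ⟨y', rfl⟩ := hsurj y
    have hyr : ρ y' ∈ Set.range (pt j c) := by
      have h1 := (hr y').2 rfl
      rw [mem_range_iff hB] at h1
      rw [range_pt]
      exact h1
    have hHx : H.1 ∈ (ProjectiveSpectrum.asHomogeneousIdeal (i x)).toIdeal := by
      rcases hH with rfl | ⟨c', rfl⟩
      · exact hxG
      · exact Ideal.add_mem _ hxF (Submodule.smul_of_tower_mem _ c' hxG)
    obtain ⟨xs, hxs⟩ := exists_lift (secι i {H}) xk (by
      rintro _ ⟨a, rfl⟩
      rw [hxk', Scheme.IdealSheafData.range_subschemeι]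
      exact (mem_support_sec {H} x).2 (fun H' hH' => by rw [hH']; exact hHx))
    let p1 := pullback.fst e1 m
    let p2 := pullback.snd e1 m
    have hC : IsPullback p1 p2 e1 m := IsPullback.of_hasPullback _ _
    have hCB : IsPullback p1 (p2 ≫ secToSpec i {H}) (e1 ≫ ρ) (pt j c) := by
      exact (hC.flip.paste_horiz hB.flip).flip
    have hCA : IsPullback p2 (p1 ≫ e2) (secι i {H}) xk := by
      have h1 := hC.flip.paste_vert hA
      rwa [hm] at h1
    have hst : p2 ≫ secToSpec i {H} = p1 ≫ e2 := by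
      have h1 := hCA.w
      calc p2 ≫ secToSpec i {H} = (p2 ≫ secι i {H}) ≫ i ≫ CohB1.ProjSpace.toSpec r k := by rw [Category.assoc]
        _ = p1 ≫ e2 := by rw [h1, Category.assoc, hxk, Category.comp_id]
    have hmono : Mono (secι i {H}) := inferInstance
    let σ : Spec (CommRingCat.of k) ⟶ pullback e1 m := hCA.lift xs (𝟙 _) (by rw [hxs, Category.id_comp])
    have hσ1 : σ ≫ p2 = xs := hCA.lift_fst _ _ _
    have hσ2 : σ ≫ (p1 ≫ e2) = 𝟙 _ := hCA.lift_snd _ _ _
    have hiso : IsIso (p1 ≫ e2) := by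
      refine ⟨σ, ?_, hσ2⟩
      apply hCA.hom_ext
      · rw [← cancel_mono (secι i {H}), Category.assoc, Category.assoc, reassoc_of% hσ1, hxs, Category.id_comp, hCA.w]
      · rw [Category.assoc, hσ2, Category.comp_id, Category.id_comp]
    refine isIso_fiber (e1 ≫ ρ) (ρ y') (pt j c) hyr ?_
    have h1 : pullback.snd (e1 ≫ ρ) (pt j c) = hCB.isoPullback.inv ≫ (p2 ≫ secToSpec i {H}) :=
      hCB.isoPullback_inv_snd.symm
    have h2 : IsIso (p2 ≫ secToSpec i {H}) := by
      rw [hst]
      exact hiso
    rw [h1]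
    exact IsIso.comp_isIso' inferInstance h2
  have hiso : IsIso (e1 ≫ ρ) := isIso_of_closed_fibres (e1 ≫ ρ) key
  exact ⟨inv (e1 ≫ ρ) ≫ e1, by rw [Category.assoc, IsIso.inv_hom_id]⟩

variable [IsClosedImmersion i] [IrreducibleSpace X] [SmoothOfRelativeDimension 2 (i ≫ CohB1.ProjSpace.toSpec r k)]

/-- **The base locus of a Lefschetz pencil on a surface is nonempty.** -/
theorem exists_base_point (hd : 1 ≤ d) (hL : IsLefschetzPencil k 2 i d F G) (hρ : LefMon.IsPencilFibration i F G b ρ) :
    ∃ x : X, IsClosed ({x} : Set X) ∧ F.1 ∈ (ProjectiveSpectrum.asHomogeneousIdeal (i x)).toIdeal ∧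
      G.1 ∈ (ProjectiveSpectrum.asHomogeneousIdeal (i x)).toIdeal := by
  have hPr := Groth.Agent.Ega3B.ProjProper.isProper_toSpec r k
  have hJ : JacobsonSpace X := LocallyOfFiniteType.jacobsonSpace (i ≫ CohB1.ProjSpace.toSpec r k)
  by_contra hcon
  push Not at hcon
  have hno : ∀ x : X, F.1 ∈ (ProjectiveSpectrum.asHomogeneousIdeal (i x)).toIdeal →
      G.1 ∉ (ProjectiveSpectrum.asHomogeneousIdeal (i x)).toIdeal := by
    intro x h1 h2
    have h3 : x ∈ ((secIdeal i {F, G}).support : Set X) := (mem_support_sec {F, G} x).2 (by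
      rintro H (rfl | rfl)
      · exact h1
      · exact h2)
    obtain ⟨y, hy, hyc⟩ := nonempty_inter_closedPoints (Z := ((secIdeal i {F, G}).support : Set X)) ⟨x, h3⟩
      (secIdeal i {F, G}).support.isClosed.isLocallyClosed
    have h4 := (mem_support_sec {F, G} y).1 hy
    exact hcon y ((mem_closedPoints_iff).1 hyc) (h4 F (Or.inl rfl)) (h4 G (Or.inr rfl))
  obtain ⟨c, hc⟩ := exists_transversal hL
  have hsm := smooth_of_transversal (n := 2) (by norm_num) hc
  obtain ⟨m, -, hm⟩ := isPullback_line hρ c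
  obtain ⟨w, hw⟩ := surjective_rho hL hρ (LefMon.fieldPt k k c (IsLocalRing.closedPoint k))
  obtain ⟨z, -, -⟩ := Scheme.exists_preimage_of_isPullback hm w (IsLocalRing.closedPoint k) hw
  have hmem : ∀ z : Sec i {F + c • G}, i (secι i {F + c • G} z) ∈ Dplus G := by
    intro z hG
    have h1 : secι i {F + c • G} z ∈ (secIdeal i {F + c • G}).support := by
      have h2 : secι i {F + c • G} z ∈ Set.range (secι i {F + c • G}) := ⟨z, rfl⟩
      rw [Scheme.IdealSheafData.range_subschemeι] at h2
      exact h2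
    have h2 := (mem_support_sec {F + c • G} _).1 h1 (F + c • G) rfl
    have h3 : F.1 ∈ (ProjectiveSpectrum.asHomogeneousIdeal (i (secι i {F + c • G} z))).toIdeal := by
      have h4 := Ideal.sub_mem _ h2 (Submodule.smul_of_tower_mem _ c hG)
      have h5 : (F + c • G).1 - c • G.1 = F.1 := add_sub_cancel_right _ _
      rwa [h5] at h4
    exact hno _ h3 hG
  have haff : IsAffine (Sec i {F + c • G}) := by
    let j' : Sec i {F + c • G} ⟶ (Dplus G : Scheme.{u}) := IsOpenImmersion.lift (Dplus G).ι (secι i {F + c • G} ≫ i) (by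
      rw [Scheme.Opens.range_ι]
      rintro _ ⟨y, rfl⟩
      exact hmem y)
    have hj' : j' ≫ (Dplus G).ι = secι i {F + c • G} ≫ i := IsOpenImmersion.lift_fac _ _ _
    have h1 : IsClosedImmersion (j' ≫ (Dplus G).ι) := by
      rw [hj']
      infer_instance
    have h2 : IsClosedImmersion j' := IsClosedImmersion.of_comp j' (Dplus G).ι
    have h3 : IsAffine (Dplus G : Scheme.{u}) := isAffineOpen_Dplus G hd
    exact isAffine_of_isAffineHom j'
  have hpr : IsProper (secToSpec i {F + c • G}) := inferInstance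
  have hne : Nonempty (Sec i {F + c • G}) := ⟨z⟩
  have h0 := Sga4h.CurveHat410.topologicalKrullDim_le_zero (secToSpec i {F + c • G})
  have h1 := UnramA.SmoothFibreDim.localDim_eq (2 - 1) (secToSpec i {F + c • G}) z
  have h2 := VarietyB.DimTop.localDim_le_dim z
  rw [h1, h0] at h2
  norm_num at h2

/-- **A Lefschetz pencil on a surface has a section.** -/
theorem exists_section (hd : 1 ≤ d) (hL : IsLefschetzPencil k 2 i d F G) (hρ : LefMon.IsPencilFibration i F G b ρ) :
    ∃ s : CohB1.ProjSpace 1 k ⟶ X', s ≫ ρ = 𝟙 _ := by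
  obtain ⟨x, hx, h1, h2⟩ := exists_base_point hd hL hρ
  exact exists_section_of_point (surjective_rho hL hρ) hρ x hx h1 h2

end K372.Sect
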