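import Groth.Agent.LefMon.K372.Total
import Groth.Agent.LefMon.K372.Sect
import Groth.Agent.Lefpen.H724.Konig

/-!
# The limit argument

`main`: the theorem, from the surjectivity of `b^*` on `H^1` and the finiteness of `H^1(X, Z/ℓ^ν)`.
-/

set_option autoImplicit false
universe u
open CategoryTheory CategoryTheory.Limits AlgebraicGeometry Opposite Abelian TopologicalSpace IsLocalRing
open scoped Groth.Agent.Etcore.EtInst Groth.Agent.Etcore.HC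
open Groth.Agent.Etcore.EtInst Groth.Agent.Etcore.PullCoh Groth.Agent.Etcore.HpullCalc
open Groth.Agent.Etcore.HC Groth.Agent.Lefpen.H527.ConstCoef

namespace K372.Limit

open Groth.Agent LefPen K372.GenFib K372.LocCls

/-- The limit argument, abstract form. -/
theorem exists_system {X Cb X' : Scheme.{u}} (ℓ : ℕ) (q : Cb ⟶ X') (b : X' ⟶ X) (c : ℕ)
    (x : ∀ ν, HH Cb (EtCoh.const Cb (ZMod (ℓ ^ ν))) 1)
    (hx : ∀ ν, HHmap (cst Cb (EtAdic.redHom ℓ ν).toAddMonoidHom) 1 (x (ν + 1)) = x ν)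
    (h1 : ∀ ν, ∃ z : HH X' (EtCoh.const _ (ZMod (ℓ ^ ν))) 1, HC (ZMod (ℓ ^ ν)) q 1 z = c • x ν)
    (h2 : ∀ ν, Function.Surjective (HC (ZMod (ℓ ^ ν)) b 1))
    (h3 : ∀ ν, Finite (HH X (EtCoh.const X (ZMod (ℓ ^ ν))) 1)) :
    ∃ y : ∀ ν, HH X (EtCoh.const X (ZMod (ℓ ^ ν))) 1,
      (∀ ν, HHmap (cst X (EtAdic.redHom ℓ ν).toAddMonoidHom) 1 (y (ν + 1)) = y ν) ∧
      ∀ ν, HC (ZMod (ℓ ^ ν)) (q ≫ b) 1 (y ν) = c • x ν := by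
  obtain ⟨y, hy1, hy2⟩ := Groth.Agent.Lefpen.H724.Konig.exists_compatible_mem
    (A := fun ν => HH X (EtCoh.const X (ZMod (ℓ ^ ν))) 1)
    (fun ν => HHmap (cst X (EtAdic.redHom ℓ ν).toAddMonoidHom) 1)
    (fun ν y => HC (ZMod (ℓ ^ ν)) (q ≫ b) 1 y = c • x ν)
    (fun ν => by
      obtain ⟨z, hz⟩ := h1 ν
      obtain ⟨y, rfl⟩ := h2 ν z
      exact ⟨y, by rw [← HC_HC (ZMod (ℓ ^ ν)) q b (q ≫ b) rfl, hz]⟩)
    (fun ν y hy => by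
      rw [HC_cst, hy, map_nsmul, hx])
  exact ⟨y, hy2, hy1⟩

variable {k : Type u} [Field k] [IsAlgClosed k] {r d : ℕ} {X X' : Scheme.{u}}
  {i : X ⟶ CohB1.ProjSpace r k} {F G : Form r k d} {b : X' ⟶ X} {ρ : X' ⟶ CohB1.ProjSpace 1 k}
  [IsClosedImmersion i] [IrreducibleSpace X] [SmoothOfRelativeDimension 2 (i ≫ CohB1.ProjSpace.toSpec r k)]

theorem main (hd : 1 ≤ d) (hL : IsLefschetzPencil k 2 i d F G) (hρ : LefMon.IsPencilFibration i F G b ρ)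
    (Ω : Type u) [Field Ω] [Algebra (RatFunc k) Ω] [IsSepClosure (RatFunc k) Ω]
    (ℓ : ℕ) [hp : Fact ℓ.Prime] (hℓ : (ℓ : k) ≠ 0)
    (h2 : ∀ ν, Function.Surjective (HC (ZMod (ℓ ^ ν)) b 1))
    (h3 : ∀ ν, Finite (HH X (EtCoh.const X (ZMod (ℓ ^ ν))) 1))
    (x : ∀ ν : ℕ, HH (LefMon.geomFibre k ρ Ω) (EtCoh.const _ (ZMod (ℓ ^ ν))) 1)
    (hx : ∀ ν, HHmap (cst _ (EtAdic.redHom ℓ ν).toAddMonoidHom) 1 (x (ν + 1)) = x ν)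
    (hinv : ∀ σ : Ω ≃ₐ[RatFunc k] Ω, ∃ N : ℕ, 0 < N ∧
      ∀ ν : ℕ, N • (HC (ZMod (ℓ ^ ν)) (LefMon.galAct k ρ Ω σ) 1 (x ν) - x ν) = 0) :
    ∃ c : ℕ, 0 < c ∧ ∃ y : ∀ ν, HH X (EtCoh.const X (ZMod (ℓ ^ ν))) 1,
      (∀ ν, HHmap (cst X (EtAdic.redHom ℓ ν).toAddMonoidHom) 1 (y (ν + 1)) = y ν) ∧
      ∀ ν, HC (ZMod (ℓ ^ ν)) (pullback.fst ρ (LefMon.geomGenPt k Ω) ≫ b) 1 (y ν) = c • x ν := by
  obtain ⟨s, hs⟩ := Sect.exists_section hd hL hρ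
  obtain ⟨sK, hsK, -⟩ := exists_section_K s hs
  obtain ⟨ζ, hζ, hζ'⟩ := PclRed.exists_roots k ℓ hℓ
  obtain ⟨c, hc, hT⟩ := Total.exists_total hL hρ s hs Ω
  have hn : ∀ ν, ((ℓ ^ ν : ℕ) : k) ≠ 0 := fun ν => by
    rw [Nat.cast_pow]
    exact pow_ne_zero ν hℓ
  have hne : ∀ ν, NeZero (ℓ ^ ν) := fun ν => ⟨pow_ne_zero ν hp.out.ne_zero⟩
  have hinv' : ∀ (σ : Ω ≃ₐ[RatFunc k] Ω) (ν : ℕ), HC (ZMod (ℓ ^ ν)) (LefMon.galAct k ρ Ω σ) 1 (x ν) = x ν := by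
    intro σ ν
    obtain ⟨N, hN, h⟩ := hinv σ
    exact invariant ℓ hℓ hζ hζ' (πb ρ Ω) (fun ν x => exists_root Ω hL hρ sK hsK (hn ν) x) x hx _ N hN h ν
  refine ⟨c, hc, exists_system ℓ _ b c x hx (fun ν => ?_) h2 h3⟩
  exact hT (ℓ ^ ν) (ζ ν) (hζ ν) (hn ν) (x ν) (fun σ => hinv' σ ν)

end K372.Limit
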