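import Groth.Agent.LefMon.K372.Pcl
import Groth.Agent.Lefpen.H527.AdicConv

/-!
# `pcl` and reduction of coefficients

* `pcl_red`: `pcl_ν (red c) = pcl_{ν+1} c ^ ℓ`.
* `exists_roots`: a compatible system of primitive `ℓ^ν`-th roots of unity.
-/

set_option autoImplicit false
universe u
open CategoryTheory CategoryTheory.Limits AlgebraicGeometry Opposite Abelian
open scoped Groth.Agent.Etcore.EtInst Groth.Agent.Etcore.HC
open Groth.Agent.Etcore.EtInst Groth.Agent.Etcore.PullCoh Groth.Agent.Etcore.HpullCalc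
open Groth.Agent.Etcore.HC Groth.Agent.Etcore.GmFun Groth.Agent.Etcore.ZetaMap
open Groth.Agent.Etcore.KummerCls Groth.Agent.Grpsch.PicGrp
open Groth.Agent.CurvesA.MuConst (unitOf ofUnit unitOf_injective unitOf_nsmul unitOf_ofUnit powMap_app)

namespace K372.PclRed

open K372.PicEt K372.Pcl

section Red

open Groth.Agent.Lefpen.H527

theorem cst_cst {M N : Type} [AddCommGroup M] [AddCommGroup N] (φ : M →+ N) (X : Scheme.{u}) (x : ULift.{u + 1} M) :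
    (ConstCoef.cst X φ).hom.app (op (EtCoh.top X)) (cst X M x) = cst X N ⟨φ x.down⟩ := by
  have h := (EtCore.constAdj X).unit.naturality (ConstCoef.up φ)
  exact (ConcreteCategory.congr_hom h x).symm

variable {X : Scheme.{u}} {K : Type u} [Field K] {ℓ ν : ℕ} [NeZero (ℓ ^ (ν + 1))] [NeZero (ℓ ^ ν)]
  {ζ ξ : K} (hζ : IsPrimitiveRoot ζ (ℓ ^ (ν + 1))) (hξ : IsPrimitiveRoot ξ (ℓ ^ ν))
  (hζξ : ξ = ζ ^ ℓ) (σ : K →+* Γ(X, ⊤))

include hζξ in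
theorem zm_smul : zm (ℓ ^ (ν + 1)) hζ σ ≫ (ℓ • 𝟙 (EtCoh.Gm X)) =
    ConstCoef.cst X (EtAdic.redHom ℓ ν).toAddMonoidHom ≫ zm (ℓ ^ ν) hξ σ := by
  refine const_hom_ext _ _ fun x => ?_
  rw [map_comp_app, map_comp_app, cst_cst, zmap_cst, zmap_cst]
  obtain ⟨j, hj⟩ : ∃ j : ℕ, (j : ZMod (ℓ ^ (ν + 1))) = x.down := ⟨x.down.val, ZMod.natCast_zmod_val _⟩
  change (EtCoh.powMap X ℓ).hom.app _ _ = _
  have hr : (EtAdic.redHom ℓ ν).toAddMonoidHom (j : ZMod (ℓ ^ (ν + 1))) = (j : ZMod (ℓ ^ ν)) :=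
    map_natCast (EtAdic.redHom ℓ ν) j
  rw [powMap_app, ← hj, hr, zsec_natCast, zsec_natCast, smul_comm]
  congr 1
  apply unitOf_injective
  rw [unitOf_nsmul, unitOf_ofUnit, unitOf_ofUnit]
  apply Units.ext
  rw [Units.val_pow_eq_pow_val, zu_val, zu_val, hζξ, map_pow]
  rfl

include hζξ in
theorem pcl_red (c : HH X (EtCoh.const X (ZMod (ℓ ^ (ν + 1)))) 1) :
    pcl hξ σ (HHmap (ConstCoef.cst X (EtAdic.redHom ℓ ν).toAddMonoidHom) 1 c) = pcl hζ σ c ^ ℓ := by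
  rw [pcl_eq_iff, ← HHmap_comp, ← zm_smul hζ hξ hζξ σ, HHmap_comp, nsmul_id_comp, ofMul_pow, map_nsmul, pe_pcl]

end Red

/-- A compatible system of roots of unity. -/
theorem exists_roots (k : Type u) [Field k] [IsAlgClosed k] (ℓ : ℕ) [hp : Fact ℓ.Prime] (hℓ : (ℓ : k) ≠ 0) :
    ∃ ζ : ℕ → k, (∀ ν, IsPrimitiveRoot (ζ ν) (ℓ ^ ν)) ∧ ∀ ν, ζ ν = ζ (ν + 1) ^ ℓ := by
  have hℓ0 : 0 < ℓ := hp.out.pos
  have hne : NeZero (ℓ : k) := ⟨hℓ⟩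
  have step : ∀ (ν : ℕ) (z : {z : k // IsPrimitiveRoot z (ℓ ^ (ν + 1))}),
      ∃ w : {w : k // IsPrimitiveRoot w (ℓ ^ (ν + 1 + 1))}, z.1 = w.1 ^ ℓ := by
    rintro ν ⟨z, hz⟩
    obtain ⟨w, hw⟩ := IsAlgClosed.exists_pow_nat_eq z hℓ0
    refine ⟨⟨w, ?_⟩, hw.symm⟩
    have h1 : w ^ ℓ ^ (ν + 1 + 1) = 1 := by
      rw [pow_succ' ℓ (ν + 1), pow_mul, hw, hz.pow_eq_one]
    obtain ⟨j, hj, hj'⟩ := (Nat.dvd_prime_pow hp.out).1 (orderOf_dvd_of_pow_eq_one h1)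
    have h2 : j = ν + 1 + 1 := by
      by_contra hne'
      have h3 : j ≤ ν + 1 := by omega
      have h4 : w ^ ℓ ^ (ν + 1) = 1 := by
        rw [← orderOf_dvd_iff_pow_eq_one, hj']
        exact pow_dvd_pow ℓ h3
      have h5 : z ^ ℓ ^ ν = 1 := by
        rw [← hw, ← pow_mul, ← pow_succ', h4]
      have h6 := (hz.pow_eq_one_iff_dvd _).1 h5
      have h7 := (Nat.pow_dvd_pow_iff_le_right hp.out.one_lt).1 h6
      omega
    rw [← h2, ← hj']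
    exact IsPrimitiveRoot.orderOf w
  have h1 : ∃ z : k, IsPrimitiveRoot z (ℓ ^ (0 + 1)) := by
    rw [zero_add, pow_one]
    exact HasEnoughRootsOfUnity.exists_primitiveRoot k ℓ
  choose f hf using step
  let Z : ∀ ν : ℕ, {z : k // IsPrimitiveRoot z (ℓ ^ (ν + 1))} := fun ν =>
    Nat.rec ⟨h1.choose, h1.choose_spec⟩ (fun ν z => f ν z) ν
  have hZ : ∀ ν, Z (ν + 1) = f ν (Z ν) := fun ν => rfl
  refine ⟨fun ν => Nat.casesOn ν 1 (fun μ => (Z μ).1), fun ν => ?_, fun ν => ?_⟩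
  · cases ν with
    | zero => simp
    | succ μ => exact (Z μ).2
  · cases ν with
    | zero =>
      have h9 : (Z 0).1 ^ ℓ = 1 := by simpa using (Z 0).2.pow_eq_one
      exact h9.symm
    | succ μ =>
      change (Z μ).1 = (Z (μ + 1)).1 ^ ℓ
      rw [hZ]
      exact hf μ (Z μ)

/-- Group theory: a compatible system of torsion elements killed by one integer is trivial. -/
theorem eq_one_of_system {G : Type*} [CommGroup G] {ℓ : ℕ} (hℓ : ℓ.Prime) (δ : ℕ → G)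
    (h1 : ∀ ν, δ ν = δ (ν + 1) ^ ℓ) (h2 : ∀ ν, δ ν ^ (ℓ ^ ν) = 1) (N : ℕ) (hN : 0 < N) (h3 : ∀ ν, δ ν ^ N = 1)
    (ν : ℕ) : δ ν = 1 := by
  obtain ⟨a, m, hm, rfl⟩ := Nat.exists_eq_pow_mul_and_not_dvd hN.ne' ℓ hℓ.ne_one
  have h4 : ∀ μ, δ μ ^ (ℓ ^ a) = 1 := by
    intro μ
    obtain ⟨j, -, hj⟩ := (Nat.dvd_prime_pow hℓ).1 (orderOf_dvd_of_pow_eq_one (h2 μ))
    rw [← orderOf_dvd_iff_pow_eq_one, hj]
    have h5 := orderOf_dvd_of_pow_eq_one (h3 μ)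
    rw [hj] at h5
    exact ((Nat.Prime.coprime_iff_not_dvd hℓ).2 hm).pow_left j |>.dvd_of_dvd_mul_right h5
  have h6 : ∀ a ν, δ ν = δ (ν + a) ^ (ℓ ^ a) := by
    intro a
    induction a with
    | zero => intro ν; simp
    | succ a ih =>
      intro ν
      rw [ih ν, h1 (ν + a), ← pow_mul, ← pow_succ']
      rfl
  rw [h6 a ν, h4]

/-- **`H¹(X, ℤ_ℓ)` is torsion free.** -/
theorem eq_zero_of_torsion {k : Type u} [Field k] {X : Scheme.{u}} (ℓ : ℕ) [hp : Fact ℓ.Prime] (hℓ : (ℓ : k) ≠ 0)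
    (ζ : ℕ → k) (hζ : ∀ ν, IsPrimitiveRoot (ζ ν) (ℓ ^ ν)) (hζ' : ∀ ν, ζ ν = ζ (ν + 1) ^ ℓ)
    (σ : k →+* Γ(X, ⊤)) (hdiv : ∀ ν, ∀ x : (Γ(X, ⊤))ˣ, ∃ y, y ^ (ℓ ^ ν) = x)
    (D : ∀ ν, HH X (EtCoh.const X (ZMod (ℓ ^ ν))) 1)
    (hD : ∀ ν, HHmap (Groth.Agent.Lefpen.H527.ConstCoef.cst X (EtAdic.redHom ℓ ν).toAddMonoidHom) 1 (D (ν + 1)) = D ν)
    (N : ℕ) (hN : 0 < N) (h : ∀ ν, N • D ν = 0) (ν : ℕ) : D ν = 0 := by
  have hne : ∀ ν, NeZero (ℓ ^ ν) := fun ν => ⟨pow_ne_zero ν hp.out.ne_zero⟩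
  have hk : ∀ ν, ((ℓ ^ ν : ℕ) : k) ≠ 0 := fun ν => by
    rw [Nat.cast_pow]
    exact pow_ne_zero ν hℓ
  have h1 := eq_one_of_system hp.out (fun ν => pcl (hζ ν) σ (D ν))
    (fun ν => by
      have := pcl_red (hζ (ν + 1)) (hζ ν) (hζ' ν) σ (D (ν + 1))
      rw [hD] at this
      exact this)
    (fun ν => pcl_pow_eq_one (hζ ν) σ (D ν)) N hN
    (fun ν => by
      change pcl (hζ ν) σ (D ν) ^ N = 1
      rw [← pcl_nsmul, h, pcl_zero]) ν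
  apply pcl_injective (hζ ν) σ (hk ν) (hdiv ν)
  rw [pcl_zero]
  exact h1

end K372.PclRed
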