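import Groth.Agent.LefMon.K372.Bad
import Groth.Agent.LefMon.K372.Gal
import Groth.Agent.LefMon.K372.Abs
import Groth.Agent.LefMon.K372.PclRed
import Groth.Agent.Lefpen.H527.AdicConv

/-!
# Classes of degree one on the geometric generic fibre invariant under the Galois group

* `invariant`: a compatible system fixed up to torsion is fixed;
* `exists_pic`: the line bundle attached to an invariant class descends to the generic fibre;
* `exists_loc`: a uniform multiple of an invariant class extends over the local schemes at the closed points of the line.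
-/

set_option autoImplicit false
universe u
open CategoryTheory CategoryTheory.Limits AlgebraicGeometry Opposite Abelian TopologicalSpace
open scoped Groth.Agent.Etcore.EtInst Groth.Agent.Etcore.HC
open Groth.Agent.Etcore.EtInst Groth.Agent.Etcore.PullCoh Groth.Agent.Etcore.HpullCalc
open Groth.Agent.Etcore.HC Groth.Agent.Lefpen.H527.ConstCoef

namespace K372.LocCls

open K372.Abs K372.Pcl K372.PclRed Groth.Agent Groth.Agent.Grpsch.PicGrp LefPen K372.GenFib K372.LocFib K372.Bad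

section Abstract

variable {k : Type u} [Field k] {Cb : Scheme.{u}} (ℓ : ℕ) [hp : Fact ℓ.Prime] (hℓ : (ℓ : k) ≠ 0)
  {ζ : ℕ → k} (hζ : ∀ ν, IsPrimitiveRoot (ζ ν) (ℓ ^ ν)) (hζ' : ∀ ν, ζ ν = ζ (ν + 1) ^ ℓ)
  (π : Cb ⟶ Spec (CommRingCat.of k)) (hdiv : ∀ ν, ∀ x : (Γ(Cb, ⊤))ˣ, ∃ y, y ^ (ℓ ^ ν) = x)
  (x : ∀ ν, HH Cb (EtCoh.const Cb (ZMod (ℓ ^ ν))) 1)
  (hx : ∀ ν, HHmap (cst Cb (EtAdic.redHom ℓ ν).toAddMonoidHom) 1 (x (ν + 1)) = x ν)

include hℓ hζ hζ' hdiv hx π in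
/-- A compatible system fixed up to torsion is fixed. -/
theorem invariant (g : Cb ⟶ Cb) (N : ℕ) (hN : 0 < N)
    (h : ∀ ν, N • (HC (ZMod (ℓ ^ ν)) g 1 (x ν) - x ν) = 0) (ν : ℕ) : HC (ZMod (ℓ ^ ν)) g 1 (x ν) = x ν := by
  rw [← sub_eq_zero]
  refine eq_zero_of_torsion ℓ hℓ ζ hζ hζ' (sg π) hdiv (fun ν => HC (ZMod (ℓ ^ ν)) g 1 (x ν) - x ν) (fun ν => ?_) N hN h ν
  rw [map_sub, ← HC_cst, hx]

theorem pull_eq {n : ℕ} [NeZero n] {ξ : k} (hξ : IsPrimitiveRoot ξ n) (g : Cb ⟶ Cb) (hg : g ≫ π = π)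
    (y : HH Cb (EtCoh.const Cb (ZMod n)) 1) (hy : HC (ZMod n) g 1 y = y) :
    pull g (pcl hξ (sg π) y) = pcl hξ (sg π) y := by
  rw [pull_pcl hξ (sg π) g (sg π) (sg_comp g π π hg) y, hy]

end Abstract

variable {k : Type u} [Field k] [IsAlgClosed k] {r d : ℕ} {X X' : Scheme.{u}}
  {i : X ⟶ CohB1.ProjSpace r k} {F G : Form r k d} {b : X' ⟶ X} {ρ : X' ⟶ CohB1.ProjSpace 1 k}

variable (ρ) in
/-- The projection of the geometric generic fibre to the generic fibre. -/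
noncomputable def w (Ω : Type u) [Field Ω] [Algebra (RatFunc k) Ω] : LefMon.geomFibre k ρ Ω ⟶ XK ρ :=
  pullback.lift (pullback.fst ρ _) (pullback.snd ρ _ ≫ Spec.map (CommRingCat.ofHom (algebraMap (RatFunc k) Ω)))
    (by rw [Category.assoc, pullback.condition])

variable (Ω : Type u) [Field Ω] [Algebra (RatFunc k) Ω]

omit [IsAlgClosed k] in
theorem w_fst : w ρ Ω ≫ pullback.fst ρ (LefMon.genPt k) = pullback.fst ρ (LefMon.geomGenPt k Ω) :=
  pullback.lift_fst _ _ _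

omit [IsAlgClosed k] in
theorem isPullback_w : IsPullback (w ρ Ω) (pullback.snd ρ (LefMon.geomGenPt k Ω)) (fK ρ)
    (Spec.map (CommRingCat.ofHom (algebraMap (RatFunc k) Ω))) := by
  have h1 : IsPullback (pullback.fst ρ (LefMon.genPt k)) (fK ρ) ρ (LefMon.genPt k) := IsPullback.of_hasPullback _ _
  have h2 : IsPullback (w ρ Ω ≫ pullback.fst ρ (LefMon.genPt k)) (pullback.snd ρ (LefMon.geomGenPt k Ω)) ρ
      (Spec.map (CommRingCat.ofHom (algebraMap (RatFunc k) Ω)) ≫ LefMon.genPt k) := by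
    rw [w_fst]
    exact IsPullback.of_hasPullback _ _
  exact IsPullback.of_right h2 (pullback.lift_snd _ _ _) h1

omit [IsAlgClosed k] in
theorem galAct_fst (σ : Ω ≃ₐ[RatFunc k] Ω) : LefMon.galAct k ρ Ω σ ≫ pullback.fst ρ (LefMon.geomGenPt k Ω) =
    pullback.fst ρ (LefMon.geomGenPt k Ω) := by
  rw [LefMon.galAct, pullback.map, pullback.lift_fst, Category.comp_id]

omit [IsAlgClosed k] in
theorem galAct_snd (σ : Ω ≃ₐ[RatFunc k] Ω) : LefMon.galAct k ρ Ω σ ≫ pullback.snd ρ (LefMon.geomGenPt k Ω) =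
    pullback.snd ρ (LefMon.geomGenPt k Ω) ≫ Spec.map (CommRingCat.ofHom (σ : Ω →+* Ω)) := by
  rw [LefMon.galAct, pullback.map, pullback.lift_snd]

omit [IsAlgClosed k] in
theorem galAct_w (σ : Ω ≃ₐ[RatFunc k] Ω) : LefMon.galAct k ρ Ω σ ≫ w ρ Ω = w ρ Ω := by
  apply pullback.hom_ext
  · rw [Category.assoc, w_fst, galAct_fst]
  · rw [Category.assoc, (isPullback_w (ρ := ρ) Ω).w, ← Category.assoc, galAct_snd, Category.assoc,
      SGA7.spec_map_algEquiv_comp]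

/-- The structure morphism of the geometric generic fibre over `k`. -/
noncomputable abbrev πb (ρ : X' ⟶ CohB1.ProjSpace 1 k) (Ω : Type u) [Field Ω] [Algebra (RatFunc k) Ω] :
    LefMon.geomFibre k ρ Ω ⟶ Spec (CommRingCat.of k) :=
  pullback.fst ρ (LefMon.geomGenPt k Ω) ≫ ρ ≫ CohB1.ProjSpace.toSpec 1 k

omit [IsAlgClosed k] in
theorem galAct_πb (σ : Ω ≃ₐ[RatFunc k] Ω) : LefMon.galAct k ρ Ω σ ≫ πb ρ Ω = πb ρ Ω := by
  rw [πb, ← Category.assoc, galAct_fst]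

omit [IsAlgClosed k] in
/-- An integer invertible in `k` is invertible in `Ω`. -/
theorem natCast_ne_zero {n : ℕ} (hn : (n : k) ≠ 0) : (n : Ω) ≠ 0 := by
  have h1 : (n : RatFunc k) ≠ 0 := by
    rw [← map_natCast (RatFunc.C : k →+* RatFunc k) n]
    exact (map_ne_zero_iff _ (RatFunc.C : k →+* RatFunc k).injective).2 hn
  rw [← map_natCast (algebraMap (RatFunc k) Ω) n]
  exact (map_ne_zero_iff _ (algebraMap (RatFunc k) Ω).injective).2 h1

variable [IsClosedImmersion i] [IrreducibleSpace X] [SmoothOfRelativeDimension 2 (i ≫ CohB1.ProjSpace.toSpec r k)]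
  (hL : IsLefschetzPencil k 2 i d F G) (hρ : LefMon.IsPencilFibration i F G b ρ)
  (sK : Spec (CommRingCat.of (RatFunc k)) ⟶ XK ρ) (hsK : sK ≫ fK ρ = 𝟙 _)

include hL hρ hsK in
theorem exists_root [IsSepClosure (RatFunc k) Ω] {n : ℕ} (hn : (n : k) ≠ 0)
    (x : (Γ(LefMon.geomFibre k ρ Ω, ⊤))ˣ) : ∃ y, y ^ n = x := by
  have h0 : IsSepClosed Ω := IsSepClosure.sep_closed (RatFunc k)
  exact Gal.exists_root (fΩ := pullback.snd ρ (LefMon.geomGenPt k Ω))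
    (Gal.isIso_appTop (isPullback_w (ρ := ρ) Ω) (isSmoothProperCurve hL hρ) (isIso_appTop hL hρ sK hsK)) n
    (natCast_ne_zero Ω hn) x

include hL hρ hsK in
/-- The line bundle attached to an invariant class descends to the generic fibre. -/
theorem exists_pic [IsSepClosure (RatFunc k) Ω] {n : ℕ} [NeZero n] {ξ : k} (hξ : IsPrimitiveRoot ξ n)
    (y : HH (LefMon.geomFibre k ρ Ω) (EtCoh.const _ (ZMod n)) 1)
    (hy : ∀ σ : Ω ≃ₐ[RatFunc k] Ω, HC (ZMod n) (LefMon.galAct k ρ Ω σ) 1 y = y) :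
    ∃ a : Pic (XK ρ), a ^ n = 1 ∧ pull (w ρ Ω) a = pcl hξ (sg (πb ρ Ω)) y := by
  have hg : IsGalois (RatFunc k) Ω := IsSepClosure.isGalois
  have hC := isSmoothProperCurve hL hρ
  have hH0 := isIso_appTop hL hρ sK hsK
  obtain ⟨a, ha⟩ := Gal.exists_desc (isPullback_w (ρ := ρ) Ω) hC hH0 sK hsK (LefMon.galAct k ρ Ω) (galAct_w Ω)
    (galAct_snd Ω) (pcl hξ (sg (πb ρ Ω)) y) (fun σ => pull_eq (πb ρ Ω) hξ _ (galAct_πb Ω σ) y (hy σ))
  refine ⟨a, ?_, ha⟩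
  refine Gal.eq_one_of_pull (isPullback_w (ρ := ρ) Ω) hC hH0 _ ?_
  rw [map_pow, ha, pcl_pow_eq_one]

include hL hρ hsK in
/-- A uniform multiple of an invariant class extends over the local schemes at the closed points of the line. -/
theorem exists_loc [IsSepClosure (RatFunc k) Ω] {n : ℕ} [NeZero n] {ξ : k} (hξ : IsPrimitiveRoot ξ n) (hn : (n : k) ≠ 0)
    (y : HH (LefMon.geomFibre k ρ Ω) (EtCoh.const _ (ZMod n)) 1)
    (hy : ∀ σ : Ω ≃ₐ[RatFunc k] Ω, HC (ZMod n) (LefMon.galAct k ρ Ω σ) 1 y = y)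
    {p : CohB1.ProjSpace 1 k} {c : ℕ} (hE : Bad.Ext ρ p c) :
    ∃ z : HH (Xp ρ p) (EtCoh.const _ (ZMod n)) 1, HC (ZMod n) (w ρ Ω ≫ gK ρ p) 1 z = c • y := by
  obtain ⟨a, ha, ha'⟩ := exists_pic Ω hL hρ sK hsK hξ y hy
  obtain ⟨M, hM, hM'⟩ := hE n a (Nat.pos_of_ne_zero (NeZero.ne n)) ha
  let π : Xp ρ p ⟶ Spec (CommRingCat.of k) :=
    pullback.fst ρ ((CohB1.ProjSpace 1 k).fromSpecStalk p) ≫ ρ ≫ CohB1.ProjSpace.toSpec 1 k
  have hπ : (w ρ Ω ≫ gK ρ p) ≫ π = πb ρ Ω := by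
    rw [Category.assoc, ← Category.assoc (gK ρ p), gK_fst, ← Category.assoc, w_fst]
  refine exists_class hξ hn (w ρ Ω ≫ gK ρ p) π (exists_root Ω hL hρ sK hsK hn) y c M hM ?_
  rw [hπ, ← ha', ← map_pow, ← hM', pull_comp]

end K372.LocCls
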