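import Groth.Agent.LefMon.K372.TorsExp
import Groth.Agent.Models.K382.KerPic
import Groth.Agent.Models.H55.MinFib
import Groth.Agent.Models.H300.ExtPic
import Groth.Agent.S3340
import Groth.Agent.S3344

/-!
# Extension of torsion line bundles over a regular proper model, up to a bounded multiple

`R` a discrete valuation ring, `C` a smooth proper curve over the fraction field with a rational point, `X` a regular
proper model:
* `exists_lift`: there is `e > 0` such that for all `m > 0` and `λ ∈ Pic(C)[m]`, `λ^e` extends to `Pic(X)[m]`;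
* `exists_lift_one`: `e = 1` when the closed fibre is irreducible.
-/

set_option autoImplicit false
universe u
open CategoryTheory CategoryTheory.Limits AlgebraicGeometry Opposite TopologicalSpace

namespace K372.LocExt

open Groth.Agent Groth.Agent.Grpsch.PicGrp Groth.Agent.Dix.IdealModCartier Groth.Agent.Models.H65.PicDeg
  Groth.Agent.Fdesc.LocGen

variable {R : Type u} [CommRing R] [IsDomain R] [IsDiscreteValuationRing R]
  {C X : Scheme.{u}} {f : C ⟶ Spec (CommRingCat.of (FractionRing R))} {p : X ⟶ Spec (CommRingCat.of R)}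
  (hC : Curve.IsSmoothProperCurve (FractionRing R) C f) (hH0 : IsIso f.appTop)
  (hX : Models.IsRegularProperModel R X p C f)
  {g : C ⟶ X} (hg : IsPullback g f p (Spec.map (CommRingCat.ofHom (algebraMap R (FractionRing R)))))
  (s : Spec (CommRingCat.of (FractionRing R)) ⟶ C) (hs : s ≫ f = 𝟙 _)

include hC hH0 hX hs in
theorem multGcd_eq_one {n : ℕ} {Γ : Fin n → ArSurf.VertComp R (Over.mk p)}
    (hΓ : Models.IsComponentList R (Over.mk p) Γ) : Models.multGcd R (Over.mk p) Γ = 1 := by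
  obtain ⟨⟨i, x, -, -, -, -, -, hm⟩, -, -⟩ := S3344.result R C X f p hC hH0 hX Γ hΓ s hs
  exact Nat.dvd_one.1 (hm ▸ Finset.gcd_dvd (Finset.mem_univ i))

include hC hH0 hX hg hs in
/-- A class which is trivial on the generic fibre and of degree zero on all the components is trivial. -/
theorem eq_one [IsProper (Over.mk p).hom] {n : ℕ} {Γ : Fin n → ArSurf.VertComp R (Over.mk p)}
    (hΓ : Models.IsComponentList R (Over.mk p) Γ) (a : Pic X) (ha : pull g a = 1)
    (hd : ∀ i, deg (X := Over.mk p) (Γ i) a = 0) : a = 1 := by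
  obtain ⟨M, hM, rfl⟩ := exists_mk a
  rw [pull_mk, mk_eq_one_iff] at ha
  have h1 := S3340.result R C X f p hC hH0 hX Γ hΓ g hg M hM ha hd
  rw [multGcd_eq_one hC hH0 hX s hs hΓ] at h1
  have h2 : mk M hM ^ 1 = 1 := by
    rw [← mk_tensorPow hM, mk_eq_one_iff]
    exact h1
  rwa [pow_one] at h2

include hC hH0 hX hg hs in
/-- **Torsion classes extend, up to a bounded multiple.** -/
theorem exists_lift (h2 : ∀ x : X, IsClosed ({x} : Set X) → ringKrullDim (X.presheaf.stalk x) = 2) :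
    ∃ e : ℕ, 0 < e ∧ ∀ (m : ℕ) (a : Pic C), 0 < m → a ^ m = 1 → ∃ b : Pic X, b ^ m = 1 ∧ pull g b = a ^ e := by
  obtain ⟨n, Γ, L, hΓ, hL⟩ := Models.H55.MinFib.exists_componentList hC hX h2
  have hLi : ∀ i, PicF.IsInvertible (L i) := fun i => (isInvertible_of_isInverseOf (hL i)).1
  have hp : IsProper p := hX.2.1
  have hp' : IsProper (Over.mk p).hom := hX.2.1
  obtain ⟨e, he, hA⟩ := K372.TorsExp.exists_exp (fun i j => ArSurf.inter R (Over.mk p) (L j) (Γ i))
  refine ⟨e, he, fun m a hm ha => ?_⟩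
  obtain ⟨b, hb⟩ := Models.H300.ExtPic.pull_surjective_of_isPullback hg hX.2.2 a
  obtain ⟨c, hc⟩ := Groth.Agent.K382.KerPic.exists_prod_zpow hC hH0 hX hΓ hL hLi hg (b ^ m)
    (by rw [map_pow, hb, ha])
  have hprod : ∀ (c : Fin n → ℤ) (i : Fin n), deg (X := Over.mk p) (Γ i) (∏ j, mk (L j) (hLi j) ^ c j) =
      ∑ j, ArSurf.inter R (Over.mk p) (L j) (Γ i) * c j := fun c i => by
    have h := deg_prod_zpow (X := Over.mk p) (Γ i) Finset.univ (fun j => mk (L j) (hLi j)) c
    refine h.trans (Finset.sum_congr rfl fun j _ => ?_)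
    rw [mul_comm]
    rfl
  obtain ⟨v, hv⟩ := hA m (fun i => deg (X := Over.mk p) (Γ i) b) c hm (fun i => by
    have h1 := deg_pow (X := Over.mk p) (Γ i) b m
    have h3 : deg (X := Over.mk p) (Γ i) (b ^ m) = _ := (congrArg (deg (X := Over.mk p) (Γ i)) hc).trans (hprod c i)
    exact h1.symm.trans h3)
  have hq : pull g (∏ j, mk (L j) (hLi j) ^ v j) = 1 :=
    Groth.Agent.K382.KerPic.pull_prod_zpow hL hLi hg v
  refine ⟨b ^ e * (∏ j, mk (L j) (hLi j) ^ v j)⁻¹, ?_, ?_⟩
  · refine eq_one hC hH0 hX hg s hs hΓ _ ?_ ?_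
    · rw [map_pow, map_mul, map_inv, map_pow, hq, hb, inv_one, mul_one, ← pow_mul, mul_comm, pow_mul, ha, one_pow]
    · intro i
      have h0 : deg (X := Over.mk p) (Γ i) (b ^ e * (∏ j, mk (L j) (hLi j) ^ v j)⁻¹) = 0 := by
        have h1 := deg_mul (X := Over.mk p) (Γ i) (b ^ e) (∏ j, mk (L j) (hLi j) ^ v j)⁻¹
        have h3 := deg_inv (X := Over.mk p) (Γ i) (∏ j, mk (L j) (hLi j) ^ v j)
        have h4 := deg_pow (X := Over.mk p) (Γ i) b e
        have h5 := hprod v i
        refine h1.trans ?_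
        rw [h3, h4, h5, hv i, add_neg_cancel]
      have h1 := deg_pow (X := Over.mk p) (Γ i) (b ^ e * (∏ j, mk (L j) (hLi j) ^ v j)⁻¹) m
      exact h1.trans (by rw [h0, mul_zero])
  · rw [map_mul, map_inv, map_pow, hq, hb, inv_one, mul_one]

include hC hH0 hX hg hs in
/-- When the closed fibre is irreducible, torsion classes extend. -/
theorem exists_lift_one (h2 : ∀ x : X, IsClosed ({x} : Set X) → ringKrullDim (X.presheaf.stalk x) = 2)
    (hirr : IsIrreducible (p ⁻¹' {IsLocalRing.closedPoint R})) (m : ℕ) (a : Pic C) (ha : a ^ m = 1) :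
    ∃ b : Pic X, b ^ m = 1 ∧ pull g b = a := by
  obtain ⟨n, Γ, L, hΓ, hL⟩ := Models.H55.MinFib.exists_componentList hC hX h2
  have hLi : ∀ i, PicF.IsInvertible (L i) := fun i => (isInvertible_of_isInverseOf (hL i)).1
  have hp : IsProper p := hX.2.1
  obtain ⟨b, hb⟩ := Models.H300.ExtPic.pull_surjective_of_isPullback hg hX.2.2 a
  obtain ⟨c, hc⟩ := Groth.Agent.K382.KerPic.exists_prod_zpow hC hH0 hX hΓ hL hLi hg (b ^ m)
    (by rw [map_pow, hb, ha])
  have hset : Models.specialFibreSet R (Over.mk p) = p ⁻¹' {IsLocalRing.closedPoint R} := rfl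
  have hone : ∀ i j : Fin n, i = j := by
    intro i j
    have h3 : ∀ i, Models.H71.Comps.rg (Γ i) = p ⁻¹' {IsLocalRing.closedPoint R} := fun i =>
      subset_antisymm (hset ▸ Models.H71.Comps.rg_subset (Γ i))
        ((Models.H71.Comps.rg_mem hΓ i).2 ⟨hirr, hset.ge⟩ (hset ▸ Models.H71.Comps.rg_subset (Γ i)))
    exact hΓ.1 ((h3 i).trans (h3 j).symm)
  obtain ⟨⟨i₀, x, -, -, -, -, -, hm⟩, -, -⟩ := S3344.result R C X f p hC hH0 hX Γ hΓ s hs
  refine ⟨b, ?_, hb⟩
  rw [hc, Groth.Agent.K382.KerPic.prod_zpow_eq_one_iff hC hH0 hX hΓ hL hLi]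
  exact ⟨c i₀, fun i => by rw [hone i i₀, hm, Nat.cast_one, mul_one]⟩

end K372.LocExt
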