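import Groth.Agent.LefMon.K372.LocExt
import Groth.Agent.S2209

/-!
# Extension of torsion line bundles over a regular proper model: arbitrary fraction field

`exists_lift`, `exists_lift_one` of `LocExt` with an arbitrary fraction field `K` of `R`.
-/

set_option autoImplicit false
universe u
open CategoryTheory CategoryTheory.Limits AlgebraicGeometry Opposite TopologicalSpace

namespace K372.LocExt2

open Groth.Agent Groth.Agent.Grpsch.PicGrp

variable {R : Type u} [CommRing R] [IsDomain R] [IsDiscreteValuationRing R] {K : Type u} [Field K]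
  (φ : R →+* K) (hφ : @IsFractionRing R _ K _ φ.toAlgebra)
  {C X : Scheme.{u}} {f : C ⟶ Spec (CommRingCat.of K)} {p : X ⟶ Spec (CommRingCat.of R)}
  (hC : Curve.IsSmoothProperCurve K C f) (hH0 : IsIso f.appTop)
  (hpf : Flat p) (hpp : IsProper p) (hreg : Models.IsRegularScheme X)
  {g : C ⟶ X} (hg : IsPullback g f p (Spec.map (CommRingCat.ofHom φ)))
  (s : Spec (CommRingCat.of K) ⟶ C) (hs : s ≫ f = 𝟙 _)

include hφ in
omit [IsDomain R] [IsDiscreteValuationRing R] in
theorem exists_iso : ∃ e : Spec (CommRingCat.of K) ≅ Spec (CommRingCat.of (FractionRing R)),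
    e.hom ≫ Spec.map (CommRingCat.ofHom (algebraMap R (FractionRing R))) = Spec.map (CommRingCat.ofHom φ) := by
  let _ : Algebra R K := φ.toAlgebra
  let e0 : FractionRing R ≃ₐ[R] K := FractionRing.algEquiv R K
  let e1 : CommRingCat.of (FractionRing R) ≅ CommRingCat.of K := e0.toRingEquiv.toCommRingCatIso
  refine ⟨Scheme.Spec.mapIso e1.op, ?_⟩
  change Spec.map e1.hom ≫ _ = _
  rw [← Spec.map_comp]
  congr 1
  ext x
  exact e0.commutes x

include hφ hC hH0 hpf hpp hreg hg hs in
/-- Transfer to `FractionRing R`. -/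
theorem transfer : ∃ (f' : C ⟶ Spec (CommRingCat.of (FractionRing R)))
    (s' : Spec (CommRingCat.of (FractionRing R)) ⟶ C),
    Curve.IsSmoothProperCurve (FractionRing R) C f' ∧ IsIso f'.appTop ∧ Models.IsRegularProperModel R X p C f' ∧
      IsPullback g f' p (Spec.map (CommRingCat.ofHom (algebraMap R (FractionRing R)))) ∧ s' ≫ f' = 𝟙 _ := by
  obtain ⟨e, he⟩ := exists_iso φ hφ
  obtain ⟨h1, h2, h3, h4⟩ := hC
  have hg' : IsPullback g (f ≫ e.hom) p (Spec.map (CommRingCat.ofHom (algebraMap R (FractionRing R)))) := by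
    refine IsPullback.of_iso hg (Iso.refl _) (Iso.refl _) e (Iso.refl _) ?_ ?_ ?_ ?_
    · simp
    · simp
    · simp
    · rw [Iso.refl_hom, Category.comp_id, he]
  refine ⟨f ≫ e.hom, e.inv ≫ s, ⟨inferInstance, inferInstance, h3, h4⟩, ?_, ⟨⟨hpf, inferInstance, inferInstance, g, hg'⟩,
    hpp, hreg⟩, hg', ?_⟩
  · rw [Scheme.Hom.comp_appTop]
    have h7 : IsIso e.hom.appTop := inferInstanceAs (IsIso (e.hom.app ⊤))
    exact IsIso.comp_isIso
  · rw [Category.assoc, reassoc_of% hs, e.inv_hom_id]

include hφ hC hH0 hpf hpp hreg hg hs in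
/-- **Torsion classes extend, up to a bounded multiple.** -/
theorem exists_lift (h2 : ∀ x : X, IsClosed ({x} : Set X) → ringKrullDim (X.presheaf.stalk x) = 2) :
    ∃ e : ℕ, 0 < e ∧ ∀ (m : ℕ) (a : Pic C), 0 < m → a ^ m = 1 → ∃ b : Pic X, b ^ m = 1 ∧ pull g b = a ^ e := by
  obtain ⟨f', s', a1, a2, a3, a4, a5⟩ := transfer φ hφ hC hH0 hpf hpp hreg hg s hs
  exact LocExt.exists_lift a1 a2 a3 a4 s' a5 h2

include hφ hC hH0 hpf hpp hreg hg hs in
/-- When the closed fibre is irreducible, torsion classes extend. -/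
theorem exists_lift_one (h2 : ∀ x : X, IsClosed ({x} : Set X) → ringKrullDim (X.presheaf.stalk x) = 2)
    (hirr : IsIrreducible (p ⁻¹' {IsLocalRing.closedPoint R})) (m : ℕ) (a : Pic C) (ha : a ^ m = 1) :
    ∃ b : Pic X, b ^ m = 1 ∧ pull g b = a := by
  obtain ⟨f', s', a1, a2, a3, a4, a5⟩ := transfer φ hφ hC hH0 hpf hpp hreg hg s hs
  exact LocExt.exists_lift_one a1 a2 a3 a4 s' a5 h2 hirr m a ha

include hφ hC hH0 hpf hpp hreg hg hs in
/-- The closed fibre is connected. -/
theorem isConnected_fibre : _root_.IsConnected (p ⁻¹' {IsLocalRing.closedPoint R}) := by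
  obtain ⟨f', s', a1, a2, a3, a4, a5⟩ := transfer φ hφ hC hH0 hpf hpp hreg hg s hs
  have h := S2209.result R C X f' p a1 a2 a3
  have h1 : _root_.IsConnected (Set.range (pullback.fst p (Spec.map (CommRingCat.ofHom
    (algebraMap R (IsLocalRing.ResidueField R)))))) := by
    have h2 : ConnectedSpace ↥(pullback p (Spec.map (CommRingCat.ofHom
      (algebraMap R (IsLocalRing.ResidueField R))))) := h
    rw [← Set.image_univ]
    exact isConnected_univ.image _ (Scheme.Hom.continuous _).continuousOn
  rw [Scheme.Pullback.range_fst] at h1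
  have hl : IsLocalHom (algebraMap R (IsLocalRing.ResidueField R)) := inferInstanceAs (IsLocalHom (IsLocalRing.residue R))
  have h3 : Set.range (Spec.map (CommRingCat.ofHom (algebraMap R (IsLocalRing.ResidueField R)))) =
      {IsLocalRing.closedPoint R} := by
    ext z
    constructor
    · rintro ⟨y, rfl⟩
      have : y = IsLocalRing.closedPoint (IsLocalRing.ResidueField R) := Subsingleton.elim _ _
      rw [this]
      exact IsLocalRing.comap_closedPoint (algebraMap R (IsLocalRing.ResidueField R))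
    · rintro rfl
      exact ⟨IsLocalRing.closedPoint (IsLocalRing.ResidueField R),
        IsLocalRing.comap_closedPoint (algebraMap R (IsLocalRing.ResidueField R))⟩
  rw [h3] at h1
  exact h1

end K372.LocExt2
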