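import Groth.Agent.LefMon.K372.GenPt
import Groth.Agent.Lefpen.H723.P1Flat
import Groth.Agent.Lefpen.H717.ProjIrr
import Mathlib.RingTheory.DedekindDomain.Dvr
import Mathlib.RingTheory.Polynomial.Basic

/-!
# Local rings of the projective line and its generic point `Spec k(t)`

* `genPt_apply`, `exists_frac`, `isDVR`.
-/

set_option autoImplicit false
universe u
open CategoryTheory CategoryTheory.Limits AlgebraicGeometry Opposite TopologicalSpace IsLocalRing

namespace K372.P1Loc

open Groth.Agent.Sga5.ProjSmooth Groth.Agent.Lefpen.H717.ProjIrr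

variable (k : Type u) [Field k]

/-- `k[T] → k(t)`. -/
noncomputable abbrev algK : Algebra (MvPolynomial (Fin 1) k) (RatFunc k) :=
  ((algebraMap (Polynomial k) (RatFunc k)).comp (MvPolynomial.uniqueAlgEquiv k (Fin 1)).toRingEquiv.toRingHom).toAlgebra

theorem isFractionRing_algK : @IsFractionRing (MvPolynomial (Fin 1) k) _ (RatFunc k) _ (algK k) := by
  let e : MvPolynomial (Fin 1) k ≃+* Polynomial k := (MvPolynomial.uniqueAlgEquiv k (Fin 1)).toRingEquiv
  have h1 := IsLocalization.isLocalization_of_base_ringEquiv (nonZeroDivisors (Polynomial k))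
    (RatFunc k) e.symm
  have h2 : Submonoid.map e.symm (nonZeroDivisors (Polynomial k)) =
      nonZeroDivisors (MvPolynomial (Fin 1) k) := MulEquivClass.map_nonZeroDivisors e.symm
  have h3 : ((algebraMap (Polynomial k) (RatFunc k)).comp e.symm.symm.toRingHom).toAlgebra = algK k := rfl
  rw [h3] at h1
  rw [h2] at h1
  exact h1

theorem genPt_eq : letI := algK k
    LefMon.genPt k = Spec.map (CommRingCat.ofHom (algebraMap (MvPolynomial (Fin 1) k) (RatFunc k))) ≫ chart 1 k 0 := by
  let _ := algK k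
  rw [LefMon.genPt, Groth.Agent.Lefpen.H723.P1Pt.fieldPt_eq_chart]
  congr 3
  apply MvPolynomial.ringHom_ext
  · intro a
    change MvPolynomial.aeval (fun _ : Fin 1 => RatFunc.X) (MvPolynomial.C a) =
      algebraMap (Polynomial k) (RatFunc k) (MvPolynomial.uniqueAlgEquiv k (Fin 1) (MvPolynomial.C a))
    have h4 : MvPolynomial.uniqueAlgEquiv k (Fin 1) (MvPolynomial.C a) = Polynomial.C a :=
      (MvPolynomial.uniqueAlgEquiv k (Fin 1)).commutes a
    rw [h4, MvPolynomial.aeval_C]
    rfl
  · intro i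
    obtain rfl : i = 0 := Subsingleton.elim _ _
    change MvPolynomial.aeval (fun _ : Fin 1 => RatFunc.X) (MvPolynomial.X 0) =
      algebraMap (Polynomial k) (RatFunc k) (MvPolynomial.uniqueAlgEquiv k (Fin 1) (MvPolynomial.X 0))
    have h4 : MvPolynomial.uniqueAlgEquiv k (Fin 1) (MvPolynomial.X 0) = Polynomial.X := by
      simp
    rw [h4, RatFunc.algebraMap_X, MvPolynomial.aeval_X]

theorem genPt_apply (y : Spec (CommRingCat.of (RatFunc k))) :
    LefMon.genPt k y = genericPoint (CohB1.ProjSpace 1 k) := by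
  let _ := algK k
  have := isFractionRing_algK k
  rw [genPt_eq]
  exact K372.GenPt.gp_apply (RatFunc k) (chart 1 k 0) y

theorem exists_frac (p : CohB1.ProjSpace 1 k) : ∃ φ : (CohB1.ProjSpace 1 k).presheaf.stalk p →+* RatFunc k,
    Spec.map (CommRingCat.ofHom φ) ≫ (CohB1.ProjSpace 1 k).fromSpecStalk p = LefMon.genPt k ∧
      @IsFractionRing ((CohB1.ProjSpace 1 k).presheaf.stalk p) _ (RatFunc k) _ φ.toAlgebra := by
  let _ := algK k
  have := isFractionRing_algK k
  obtain ⟨φ, h1, h2⟩ := K372.GenPt.exists_frac (RatFunc k) (chart 1 k 0) p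
  refine ⟨φ, ?_, h2⟩
  rw [h1, genPt_eq]

instance isPrincipalIdealRing : IsPrincipalIdealRing (MvPolynomial (Fin 1) k) :=
  IsPrincipalIdealRing.of_surjective (MvPolynomial.uniqueAlgEquiv k (Fin 1)).symm.toRingEquiv.toRingHom
    (MvPolynomial.uniqueAlgEquiv k (Fin 1)).symm.surjective

theorem isDVR (p : CohB1.ProjSpace 1 k) (hp : IsClosed ({p} : Set (CohB1.ProjSpace 1 k))) :
    IsDiscreteValuationRing ((CohB1.ProjSpace 1 k).presheaf.stalk p) := by
  obtain ⟨i, z, rfl⟩ := exists_mem_chart 1 k p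
  have hz : IsClosed ({z} : Set (Spec (CommRingCat.of (MvPolynomial (Fin 1) k)))) := by
    have h1 : (chart 1 k i) ⁻¹' {chart 1 k i z} = {z} := by
      ext y
      simp only [Set.mem_preimage, Set.mem_singleton_iff]
      exact ⟨fun h => (chart 1 k i).isOpenEmbedding.injective h, fun h => by rw [h]⟩
    rw [← h1]
    exact hp.preimage (chart 1 k i).continuous
  have hmax : (PrimeSpectrum.asIdeal z : Ideal (MvPolynomial (Fin 1) k)).IsMaximal :=
    (PrimeSpectrum.isClosed_singleton_iff_isMaximal _).1 hz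
  have hne : (PrimeSpectrum.asIdeal z : Ideal (MvPolynomial (Fin 1) k)) ≠ ⊥ := by
    intro h
    rw [h] at hmax
    have h2 := (Ring.isField_iff_maximal_bot (R := MvPolynomial (Fin 1) k)).2 hmax
    exact Polynomial.not_isField k (MulEquiv.isField h2
      (MvPolynomial.uniqueAlgEquiv k (Fin 1)).toRingEquiv.symm.toMulEquiv)
  have hprime : (PrimeSpectrum.asIdeal z : Ideal (MvPolynomial (Fin 1) k)).IsPrime := hmax.isPrime
  have hdvr : IsDiscreteValuationRing (Localization.AtPrime (PrimeSpectrum.asIdeal z : Ideal (MvPolynomial (Fin 1) k))) :=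
    IsLocalization.AtPrime.isDiscreteValuationRing_of_dedekind_domain (MvPolynomial (Fin 1) k) hne _
  let e2 : (Spec (CommRingCat.of (MvPolynomial (Fin 1) k))).presheaf.stalk z ≃+*
      Localization.AtPrime (PrimeSpectrum.asIdeal z : Ideal (MvPolynomial (Fin 1) k)) :=
    (StructureSheaf.stalkIso (MvPolynomial (Fin 1) k) z).toRingEquiv.symm
  have hd2 : IsDomain ((Spec (CommRingCat.of (MvPolynomial (Fin 1) k))).presheaf.stalk z) :=
    (Groth.Agent.Lefpen.H723.P1Flat.stalk_spec k z).1
  have hdvr2 : IsDiscreteValuationRing ((Spec (CommRingCat.of (MvPolynomial (Fin 1) k))).presheaf.stalk z) :=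
    IsDiscreteValuationRing.RingEquivClass.isDiscreteValuationRing e2.symm
  let e : (CohB1.ProjSpace 1 k).presheaf.stalk (chart 1 k i z) ≃+*
      (Spec (CommRingCat.of (MvPolynomial (Fin 1) k))).presheaf.stalk z :=
    (asIso ((chart 1 k i).stalkMap z)).commRingCatIsoToRingEquiv
  exact IsDiscreteValuationRing.RingEquivClass.isDiscreteValuationRing e.symm

end K372.P1Loc
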