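import Groth.Agent.LefMon.K372.PicEt

/-!
# The map `H¹(X, ℤ/n) → Pic X` attached to a primitive root of unity

* `pcl hζ σ : HH X (const X (ZMod n)) 1 → Pic X`: `pcl_add`, `pcl_zero`, `pcl_nsmul`, `pcl_pow_eq_one`,
  `exists_pcl_eq`, `exists_kap_of_pcl_eq_one`, `pcl_injective`, `pull_pcl`.
-/

set_option autoImplicit false
universe u
open CategoryTheory CategoryTheory.Limits AlgebraicGeometry Opposite Abelian
open scoped Groth.Agent.Etcore.EtInst Groth.Agent.Etcore.HC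
open Groth.Agent.Etcore.EtInst Groth.Agent.Etcore.PullCoh Groth.Agent.Etcore.HpullCalc
open Groth.Agent.Etcore.HC Groth.Agent.Etcore.GmFun Groth.Agent.Etcore.ZetaMap
open Groth.Agent.Etcore.KummerCls Groth.Agent.Grpsch.PicGrp

namespace K372.Pcl

open K372.PicEt

variable {X Y : Scheme.{u}} {K : Type u} [Field K] {n : ℕ} [NeZero n] {ζ : K} (hζ : IsPrimitiveRoot ζ n)
  (σ : K →+* Γ(X, ⊤)) (hn : (n : K) ≠ 0)

/-- The class in `Pic X` of a class in `H¹(X, ℤ/n)`. -/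
noncomputable def pcl (c : HH X (EtCoh.const X (ZMod n)) 1) : Pic X :=
  ((pe X).symm (HHmap (zm n hζ σ) 1 c)).toMul

theorem pe_pcl (c : HH X (EtCoh.const X (ZMod n)) 1) :
    pe X (Additive.ofMul (pcl hζ σ c)) = HHmap (zm n hζ σ) 1 c := by
  rw [pcl, ofMul_toMul, AddEquiv.apply_symm_apply]

theorem pcl_eq_iff (c : HH X (EtCoh.const X (ZMod n)) 1) (p : Pic X) :
    pcl hζ σ c = p ↔ HHmap (zm n hζ σ) 1 c = pe X (Additive.ofMul p) := by
  rw [← pe_pcl]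
  exact ⟨fun h => by rw [h], fun h => Additive.ofMul.injective ((pe X).injective h)⟩

theorem pcl_add (c d : HH X (EtCoh.const X (ZMod n)) 1) :
    pcl hζ σ (c + d) = pcl hζ σ c * pcl hζ σ d := by
  rw [pcl_eq_iff, map_add, ofMul_mul, map_add, pe_pcl, pe_pcl]

theorem pcl_zero : pcl hζ σ (0 : HH X (EtCoh.const X (ZMod n)) 1) = 1 := by
  rw [pcl_eq_iff, map_zero, ofMul_one, map_zero]

/-- `pcl` as a homomorphism. -/
noncomputable def pclHom : HH X (EtCoh.const X (ZMod n)) 1 →+ Additive (Pic X) where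
  toFun c := Additive.ofMul (pcl hζ σ c)
  map_zero' := by rw [pcl_zero, ofMul_one]
  map_add' c d := by rw [pcl_add, ofMul_mul]

theorem pcl_nsmul (m : ℕ) (c : HH X (EtCoh.const X (ZMod n)) 1) :
    pcl hζ σ (m • c) = pcl hζ σ c ^ m :=
  congrArg Additive.toMul (map_nsmul (pclHom hζ σ) m c)

theorem pcl_sub (c d : HH X (EtCoh.const X (ZMod n)) 1) :
    pcl hζ σ (c - d) = pcl hζ σ c / pcl hζ σ d :=
  congrArg Additive.toMul (map_sub (pclHom hζ σ) c d)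

theorem nsmul_id_comp (m : ℕ) (x : HH X (EtCoh.Gm X) 1) : HHmap (m • 𝟙 (EtCoh.Gm X)) 1 x = m • x := by
  induction m with
  | zero => rw [zero_smul, zero_smul, HHmap_apply, Ext.mk₀_zero, Ext.comp_zero]
  | succ m ih =>
    rw [succ_nsmul, succ_nsmul, ← ih, HHmap_apply, Ext.mk₀_add, Ext.comp_add, HHmap_apply, Ext.comp_mk₀_id]

theorem pcl_pow_eq_one (c : HH X (EtCoh.const X (ZMod n)) 1) : pcl hζ σ c ^ n = 1 := by
  rw [← pcl_nsmul, pcl_eq_iff, map_nsmul, ofMul_one, map_zero, ← nsmul_id_comp, ← HHmap_comp, zm_comp,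
    HHmap_apply, Ext.mk₀_zero, Ext.comp_zero]

include hn in
/-- Torsion classes come from `H¹(X, ℤ/n)`. -/
theorem exists_pcl_eq (p : Pic X) (hp : p ^ n = 1) : ∃ c, pcl hζ σ c = p := by
  have h1 : HHmap (n • 𝟙 (EtCoh.Gm X)) 1 (pe X (Additive.ofMul p)) = 0 := by
    rw [nsmul_id_comp, ← map_nsmul, ← ofMul_pow, hp, ofMul_one, map_zero]
  obtain ⟨c, hc⟩ := Ext.covariant_sequence_exact₂ _ (shortExact_zeta n hζ σ hn) (pe X (Additive.ofMul p)) h1
  exact ⟨c, (pcl_eq_iff hζ σ c p).2 hc⟩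

/-- Classes with trivial line bundle are Kummer classes. -/
theorem exists_kap_of_pcl_eq_one (c : HH X (EtCoh.const X (ZMod n)) 1) (hc : pcl hζ σ c = 1) :
    ∃ x, kap hζ σ hn x = c := by
  refine exists_kap_eq hζ σ hn c ?_
  rw [(pcl_eq_iff hζ σ c 1).1 hc, ofMul_one, map_zero]

include hn in
theorem pcl_injective (hdiv : ∀ x : (Γ(X, ⊤))ˣ, ∃ y, y ^ n = x) :
    Function.Injective (pcl hζ σ : HH X (EtCoh.const X (ZMod n)) 1 → Pic X) := by
  intro c d hcd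
  have h1 : pcl hζ σ (c - d) = 1 := by rw [pcl_sub, hcd, div_self']
  obtain ⟨x, hx⟩ := exists_kap_of_pcl_eq_one hζ σ hn _ h1
  obtain ⟨y, rfl⟩ := hdiv x
  rw [kap_pow_self] at hx
  exact (sub_eq_zero.1 hx.symm)

/-- Naturality. -/
theorem pull_pcl (f : X ⟶ Y) (τ : K →+* Γ(Y, ⊤)) (hσ : σ = f.appTop.hom.comp τ)
    (c : HH Y (EtCoh.const Y (ZMod n)) 1) :
    pull f (pcl hζ τ c) = pcl hζ σ (HC (ZMod n) f 1 c) := by
  symm
  rw [pcl_eq_iff, ← HG_pe, pe_pcl]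
  exact (HG_map_zm hζ σ f τ hσ 1 c).symm

end K372.Pcl
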