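import Groth.Agent.CurvesA.H1GmPicSurj
import Groth.Agent.Dix.K281.ClsPull
import Groth.Agent.Topos.H571.GmPull
import Groth.Agent.Etcore.KummerCls

/-!
# `Pic X ≃ H¹(X, G_m)` in the fast system, naturality

* `pe X : Additive (Pic X) ≃+ HH X (Gm X) 1`, `HG_pe`.
-/

set_option autoImplicit false
universe u
open CategoryTheory CategoryTheory.Limits AlgebraicGeometry Opposite Abelian
open scoped Groth.Agent.Etcore.EtInst Groth.Agent.Etcore.HC
open Groth.Agent.Etcore.EtInst Groth.Agent.Etcore.PullCoh Groth.Agent.Etcore.HpullCalc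
open Groth.Agent.Etcore.HC Groth.Agent.Etcore.GmFun
open Groth.Agent.Etcore.KummerCls Groth.Agent.Grpsch.PicGrp

namespace K372.PicEt

variable {X Y : Scheme.{u}}

/-- `Pic X ≃ H¹(X, G_m)`. -/
noncomputable def pe (X : Scheme.{u}) : Additive (Pic X) ≃+ HH X (EtCoh.Gm X) 1 :=
  Groth.Agent.CurvesA.H1GmPic.picEquiv X

theorem HG_eq (f : X ⟶ Y) (x : HH Y (EtCoh.Gm Y) 1) :
    HG f 1 x = (EtLim.HGmPull f 1 x : HH X (EtCoh.Gm X) 1) :=
  (Groth.Agent.Topos.H571.GmPull.HGmPull_eq f 1 x).symm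

theorem HG_pe (f : X ⟶ Y) (c : Pic Y) :
    HG f 1 (pe Y (Additive.ofMul c)) = pe X (Additive.ofMul (pull f c)) := by
  obtain ⟨L, hL, rfl⟩ := exists_mk c
  rw [HG_eq]
  have h := K281.ClsPull.HGmPull_clsL f L hL (Groth.Agent.Fdesc.LocGen.isInvertible_pullback _ hL)
  refine Eq.trans ?_ (h.trans ?_)
  · rfl
  · rw [pull_mk]
    rfl

end K372.PicEt
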