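import Groth.Agent.LefMon.K372.Glue
import Groth.Agent.PicF.K248.StalkLim
import Groth.Agent.Lefpen.H119.NbLim
import Groth.Agent.Lefpen.H712.KC

/-!
# Spreading out classes from the local scheme at a point to a neighbourhood

`exists_spread`, `extOn_of_local`.
-/

set_option autoImplicit false
universe u
open CategoryTheory CategoryTheory.Limits AlgebraicGeometry Opposite Abelian TopologicalSpace
open scoped Groth.Agent.Etcore.EtInst Groth.Agent.Etcore.HC
open Groth.Agent.Etcore.EtInst Groth.Agent.Etcore.HpullCalc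
open Groth.Agent.Etcore.HC

namespace K372.Spread

open K248.StalkLim Groth.Agent.Lefpen.H712.HT Groth.Agent.Lefpen.H712.KC K372.Glue

variable {S X' : Scheme.{u}} (ρ : X' ⟶ S) [QuasiCompact ρ] [QuasiSeparated ρ] (p : S) (M : Type) [AddCommGroup M]

theorem exists_spread (n : ℕ) (z : HH (pullback ρ (S.fromSpecStalk p)) (EtCoh.const _ M) n) :
    ∃ (V : Nhd S p) (z' : HH (pullback ρ (Scheme.Opens.ι V.1)) (EtCoh.const _ M) n),
      HC M (bm ρ (leg S p V) (leg_ι S p V)) n z' = z := by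
  obtain ⟨x, hx⟩ := (kc_bijective M (pullback.fst ρ (S.fromSpecStalk p)) n).2 z
  obtain ⟨V, y, hy⟩ := Groth.Agent.Lefpen.H119.NbLim.exists_of_cofiltered (D S p) (fun V => Scheme.Opens.ι V.1)
    (fun V W h => S.homOfLE_ι h.le) ρ (cone S p) (isLimit S p) (S.fromSpecStalk p) (fun V => leg_ι S p V)
    (fun V W h => inferInstance) (fun V => inferInstance) (fun V => inferInstance) (EtCoh.const X' M) n x
  refine ⟨V, kc M (pullback.fst ρ (Scheme.Opens.ι V.1)) n y, ?_⟩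
  rw [← hx, ← hy]
  exact (kc_rs M ρ (leg S p V) (leg_ι S p V) n y).symm

theorem extOn_of_local {Cb : Scheme.{u}} (q : Cb ⟶ X') (u : Cb ⟶ pullback ρ (S.fromSpecStalk p))
    (hu : u ≫ pullback.fst ρ (S.fromSpecStalk p) = q)
    (z : HH (pullback ρ (S.fromSpecStalk p)) (EtCoh.const _ M) 1) (x : HH Cb (EtCoh.const Cb M) 1)
    (hz : HC M u 1 z = x) :
    ∃ V : S.Opens, p ∈ V ∧ ExtOn ρ q M x V := by
  obtain ⟨V, z', hz'⟩ := exists_spread ρ p M 1 z
  let e : (ρ ⁻¹ᵁ V.1 : Scheme.{u}) ⟶ pullback ρ (Scheme.Opens.ι V.1) :=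
    pullback.lift (ρ ⁻¹ᵁ V.1).ι (ρ ∣_ V.1) (morphismRestrict_ι ρ V.1).symm
  refine ⟨V.1, V.2.2, HC M e 1 z', fun j hj => ?_⟩
  have h1 : j ≫ e = u ≫ bm ρ (leg S p V) (leg_ι S p V) := by
    rw [← cancel_mono (pullback.fst ρ (Scheme.Opens.ι V.1)), Category.assoc, Category.assoc]
    have h2 : e ≫ pullback.fst ρ (Scheme.Opens.ι V.1) = (ρ ⁻¹ᵁ V.1).ι := pullback.lift_fst _ _ _
    rw [h2, hj, bm_fst, hu]
  rw [HC_HC M j e _ rfl, h1, ← HC_HC M u _ _ rfl, hz', hz]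

end K372.Spread
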