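import Mathlib.Algebra.Module.Torsion.Basic
import Mathlib.GroupTheory.FiniteAbelian.Basic
import Mathlib.LinearAlgebra.Matrix.ToLin

/-!
# Bounded torsion of the cokernel of an integral matrix

* `exists_exp`: `∃ e > 0`, whenever `n D` (`n > 0`) lies in the image of `A`, so does `e D`.
-/

set_option autoImplicit false
universe u

namespace K372.TorsExp

/-- A finitely generated abelian group has bounded torsion. -/
theorem exists_exp_of_fg (M : Type*) [AddCommGroup M] [Module.Finite ℤ M] :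
    ∃ e : ℕ, 0 < e ∧ ∀ (n : ℕ) (x : M), 0 < n → n • x = 0 → e • x = 0 := by
  let T := AddCommGroup.torsion M
  have h0 : Module.Finite ℤ (AddSubgroup.toIntSubmodule T) := inferInstance
  have h1 : AddGroup.FG T := by
    have : Module.Finite ℤ T := h0
    exact Module.Finite.iff_addGroup_fg.mp this
  have h2 : Finite T := by
    have : Module.Finite ℤ T := h0
    exact Module.finite_of_fg_torsion T (by
      rintro ⟨x, hx⟩
      obtain ⟨n, hn, hx'⟩ := isOfFinAddOrder_iff_nsmul_eq_zero.mp hx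
      refine ⟨⟨(n : ℤ), by simpa using hn.ne'⟩, ?_⟩
      apply Subtype.ext
      simpa [Submonoid.smul_def] using hx')
  refine ⟨Nat.card T, Nat.card_pos, fun n x hn hx => ?_⟩
  have h3 : (⟨x, isOfFinAddOrder_iff_nsmul_eq_zero.mpr ⟨n, hn, hx⟩⟩ : T) ∈ (⊤ : AddSubgroup T) := trivial
  have h4 : Nat.card T • (⟨x, isOfFinAddOrder_iff_nsmul_eq_zero.mpr ⟨n, hn, hx⟩⟩ : T) = 0 := card_nsmul_eq_zero'
  exact congrArg Subtype.val h4

/-- Bounded torsion of the cokernel of an integral matrix. -/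
theorem exists_exp {r : ℕ} (A : Fin r → Fin r → ℤ) :
    ∃ e : ℕ, 0 < e ∧ ∀ (n : ℕ) (D a : Fin r → ℤ), 0 < n → (∀ i, (n : ℤ) * D i = ∑ j, A i j * a j) →
      ∃ v : Fin r → ℤ, ∀ i, (e : ℤ) * D i = ∑ j, A i j * v j := by
  let φ : (Fin r → ℤ) →ₗ[ℤ] (Fin r → ℤ) := Matrix.mulVecLin (Matrix.of A)
  obtain ⟨e, he, h⟩ := exists_exp_of_fg ((Fin r → ℤ) ⧸ LinearMap.range φ)
  refine ⟨e, he, fun n D a hn hD => ?_⟩
  have h1 : n • (Submodule.Quotient.mk D : (Fin r → ℤ) ⧸ LinearMap.range φ) = 0 := by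
    rw [← Submodule.Quotient.mk_smul, Submodule.Quotient.mk_eq_zero]
    refine ⟨a, ?_⟩
    ext i
    change ∑ j, A i j * a j = _
    rw [← hD i]
    simp
  have h2 := h n _ hn h1
  rw [← Submodule.Quotient.mk_smul, Submodule.Quotient.mk_eq_zero] at h2
  obtain ⟨v, hv⟩ := h2
  refine ⟨v, fun i => ?_⟩
  have h3 := congrFun hv i
  change ∑ j, A i j * v j = _ at h3
  rw [h3]
  simp

end K372.TorsExp
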