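import Groth.Agent.LefMon.K372.Uniq
import Groth.Agent.LefMon.K372.Spread
import Groth.Agent.Etrest.SHPoint

/-!
# Extension of invariant classes to the total space of a Lefschetz pencil of curves

`exists_total`: there is `c > 0` such that for every `n` invertible in `k` and every class `y` of `H^1(X'_Ω, Z/n)`
invariant under `Aut(Ω/k(t))`, `c • y` is the restriction of a class of `H^1(X', Z/n)`.
-/

set_option autoImplicit false
universe u
open CategoryTheory CategoryTheory.Limits AlgebraicGeometry Opposite Abelian TopologicalSpace IsLocalRing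
open scoped Groth.Agent.Etcore.EtInst Groth.Agent.Etcore.HC
open Groth.Agent.Etcore.EtInst Groth.Agent.Etcore.HpullCalc
open Groth.Agent.Etcore.HC

namespace K372.Total

open Groth.Agent LefPen K372.GenFib K372.LocCls K372.Glue Groth.Agent.Lefpen.H717.ProjIrr
  Groth.Agent.Lefpen.H723.PencilGeom K372.Bad

variable {k : Type u} [Field k] [IsAlgClosed k] {r d : ℕ} {X X' : Scheme.{u}}
  {i : X ⟶ CohB1.ProjSpace r k} {F G : Form r k d} {b : X' ⟶ X} {ρ : X' ⟶ CohB1.ProjSpace 1 k}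
  [IsClosedImmersion i] [IrreducibleSpace X] [SmoothOfRelativeDimension 2 (i ≫ CohB1.ProjSpace.toSpec r k)]
  (hL : IsLefschetzPencil k 2 i d F G) (hρ : LefMon.IsPencilFibration i F G b ρ)
  (s : CohB1.ProjSpace 1 k ⟶ X') (hs : s ≫ ρ = 𝟙 _)
  (Ω : Type u) [Field Ω] [Algebra (RatFunc k) Ω] [IsSepClosure (RatFunc k) Ω]

include hL hρ hs in
/-- **Extension of invariant classes.** -/
theorem exists_total : ∃ c : ℕ, 0 < c ∧ ∀ (n : ℕ) [NeZero n] (ξ : k) (_ : IsPrimitiveRoot ξ n) (_ : (n : k) ≠ 0)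
    (y : HH (LefMon.geomFibre k ρ Ω) (EtCoh.const _ (ZMod n)) 1)
    (_ : ∀ σ : Ω ≃ₐ[RatFunc k] Ω, HC (ZMod n) (LefMon.galAct k ρ Ω σ) 1 y = y),
    ∃ z : HH X' (EtCoh.const _ (ZMod n)) 1, HC (ZMod n) (pullback.fst ρ (LefMon.geomGenPt k Ω)) 1 z = c • y := by
  obtain ⟨sK, hsK, hsK'⟩ := exists_section_K s hs
  obtain ⟨c, hc, hE⟩ := exists_const hL hρ sK hsK
  refine ⟨c, hc, fun n _ ξ hξ hn y hy => ?_⟩
  have hpr := isProper_rho hρ
  have hP := Groth.Agent.Ega3B.ProjProper.isProper_toSpec 1 k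
  have hN1 : IsLocallyNoetherian (CohB1.ProjSpace 1 k) :=
    LocallyOfFiniteType.isLocallyNoetherian (CohB1.ProjSpace.toSpec 1 k)
  have hN2 : CompactSpace (CohB1.ProjSpace 1 k) :=
    (quasiCompact_iff_compactSpace (CohB1.ProjSpace.toSpec 1 k)).mp inferInstance
  have hN3 : IsNoetherian (CohB1.ProjSpace 1 k) := {}
  have hsc : IsSepClosed Ω := IsSepClosure.sep_closed (RatFunc k)
  have hlocal : ∀ p : CohB1.ProjSpace 1 k, IsClosed ({p} : Set (CohB1.ProjSpace 1 k)) →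
      ∃ V : (CohB1.ProjSpace 1 k).Opens, p ∈ V ∧ ExtOn ρ (pullback.fst ρ (LefMon.geomGenPt k Ω)) (ZMod n) (c • y) V := by
    intro p hp
    obtain ⟨z, hz⟩ := exists_loc Ω hL hρ sK hsK hξ hn y hy (hE p hp)
    exact Spread.extOn_of_local ρ p (ZMod n) (pullback.fst ρ (LefMon.geomGenPt k Ω)) (w ρ Ω ≫ gK ρ p)
      (by rw [Category.assoc, gK_fst, w_fst]) z (c • y) hz
  have hgenpt : ∀ y : Spec (CommRingCat.of Ω), LefMon.geomGenPt k Ω y = genericPoint (CohB1.ProjSpace 1 k) := by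
    intro y
    rw [Scheme.Hom.comp_apply]
    exact K372.P1Loc.genPt_apply k _
  have hη : ∀ V : (CohB1.ProjSpace 1 k).Opens, (V : Set (CohB1.ProjSpace 1 k)).Nonempty →
      genericPoint (CohB1.ProjSpace 1 k) ∈ V := by
    rintro V ⟨y, hy⟩
    exact (genericPoint_specializes y).mem_open V.2 hy
  have hloc : ∀ p : CohB1.ProjSpace 1 k,
      ∃ V : (CohB1.ProjSpace 1 k).Opens, p ∈ V ∧ ExtOn ρ (pullback.fst ρ (LefMon.geomGenPt k Ω)) (ZMod n) (c • y) V := by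
    intro p
    rcases Groth.Agent.Sga4h.BidGeoP1.eq_genPt_or_isClosed k p with h | h
    · obtain ⟨V, hV, hV'⟩ := hlocal _ (isClosed_pt 0 (0 : k))
      refine ⟨V, ?_, hV'⟩
      rw [h, genPt_eq_genericPoint]
      exact hη V ⟨_, hV⟩
    · exact hlocal p h
  have hH : Subsingleton (HH (Spec (CommRingCat.of Ω)) (EtCoh.const _ (ZMod n)) 1) :=
    Etrest.SHPoint.subsingleton_H_of_sepClosed Ω _ 1 one_pos
  obtain ⟨z, hz⟩ := extOn_top ρ s hs (pullback.snd ρ (LefMon.geomGenPt k Ω)) (LefMon.geomGenPt k Ω)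
    (pullback.fst ρ (LefMon.geomGenPt k Ω)) pullback.condition (ZMod n) hH (c • y) ⟨closedPoint Ω⟩
    (fun V hV y => by rw [hgenpt]; exact hη V hV) (fun V hV => Uniq.uniqOn hL hρ s hs Ω hξ hn V hV) hloc
  let e : X' ⟶ (ρ ⁻¹ᵁ (⊤ : (CohB1.ProjSpace 1 k).Opens) : Scheme.{u}) :=
    IsOpenImmersion.lift (ρ ⁻¹ᵁ (⊤ : (CohB1.ProjSpace 1 k).Opens)).ι (𝟙 X') (by
      rw [Scheme.Opens.range_ι]
      exact fun _ _ => trivial)
  have he : e ≫ (ρ ⁻¹ᵁ (⊤ : (CohB1.ProjSpace 1 k).Opens)).ι = 𝟙 X' := IsOpenImmersion.lift_fac _ _ _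
  refine ⟨HC (ZMod n) e 1 z, ?_⟩
  rw [HC_HC (ZMod n) _ e _ rfl]
  exact hz _ (by rw [Category.assoc, he, Category.comp_id])

end K372.Total
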