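import Groth.Agent.LefMon.K372.LocCls
import Groth.Agent.LefMon.K372.Glue
import Groth.Agent.LefMon.K372.GenInj
import Groth.Agent.Sga4B.CurveComp

/-!
# Uniqueness of extensions over open subsets of the line

`uniqOn`: a class on `ρ⁻¹ V` which vanishes on the section and on the geometric generic fibre vanishes.
-/

set_option autoImplicit false
universe u
open CategoryTheory CategoryTheory.Limits AlgebraicGeometry Opposite Abelian TopologicalSpace IsLocalRing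
open scoped Groth.Agent.Etcore.EtInst Groth.Agent.Etcore.HC
open Groth.Agent.Etcore.EtInst Groth.Agent.Etcore.HpullCalc
open Groth.Agent.Etcore.HC

namespace K372.Uniq

open Groth.Agent LefPen K372.GenFib K372.LocCls K372.Glue Groth.Agent.Lefpen.H717.ProjIrr
  Groth.Agent.Lefpen.H723.PencilGeom

section Factor

variable {k : Type u} [Field k] {X' : Scheme.{u}} (ρ : X' ⟶ CohB1.ProjSpace 1 k)

/-- A field-valued point over the generic point of the line factors through the generic fibre. -/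
theorem exists_factor {L : Type u} [Field L] (t : Spec (CommRingCat.of L) ⟶ X')
    (ht : ρ (t (closedPoint L)) = genericPoint (CohB1.ProjSpace 1 k)) :
    ∃ t' : Spec (CommRingCat.of L) ⟶ XK ρ, t' ≫ pullback.fst ρ (LefMon.genPt k) = t := by
  obtain ⟨e, he⟩ := exists_iso_stalk (k := k)
  have h1 : ∃ u : Spec (CommRingCat.of L) ⟶
      Spec ((CohB1.ProjSpace 1 k).presheaf.stalk (genericPoint (CohB1.ProjSpace 1 k))),
      u ≫ (CohB1.ProjSpace 1 k).fromSpecStalk _ = t ≫ ρ := by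
    have h2 : (t ≫ ρ) (closedPoint L) = genericPoint (CohB1.ProjSpace 1 k) := ht
    rw [← h2]
    exact ⟨Spec.map (Scheme.stalkClosedPointTo (t ≫ ρ)), Scheme.Spec_stalkClosedPointTo_fromSpecStalk _⟩
  obtain ⟨u, hu⟩ := h1
  exact ⟨pullback.lift t (u ≫ e.inv) (by rw [Category.assoc, ← he, e.inv_hom_id_assoc, hu]), pullback.lift_fst _ _ _⟩

end Factor

variable {k : Type u} [Field k] [IsAlgClosed k] {r d : ℕ} {X X' : Scheme.{u}}
  {i : X ⟶ CohB1.ProjSpace r k} {F G : Form r k d} {b : X' ⟶ X} {ρ : X' ⟶ CohB1.ProjSpace 1 k}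
  [IsClosedImmersion i] [IrreducibleSpace X] [SmoothOfRelativeDimension 2 (i ≫ CohB1.ProjSpace.toSpec r k)]
  (hL : IsLefschetzPencil k 2 i d F G) (hρ : LefMon.IsPencilFibration i F G b ρ)
  (s : CohB1.ProjSpace 1 k ⟶ X') (hs : s ≫ ρ = 𝟙 _)
  (Ω : Type u) [Field Ω] [Algebra (RatFunc k) Ω]

include hL hρ in
theorem uniqOn {n : ℕ} [NeZero n] {ξ : k} (hξ : IsPrimitiveRoot ξ n) (hn : (n : k) ≠ 0)
    (V : (CohB1.ProjSpace 1 k).Opens) (hV : (V : Set (CohB1.ProjSpace 1 k)).Nonempty) :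
    UniqOn ρ s hs (pullback.fst ρ (LefMon.geomGenPt k Ω)) (ZMod n) V := by
  intro z hz1 hz2
  obtain ⟨sK, hsK, hsK'⟩ := exists_section_K s hs
  have hη : genericPoint (CohB1.ProjSpace 1 k) ∈ V := by
    obtain ⟨y, hy⟩ := hV
    exact (genericPoint_specializes y).mem_open V.2 hy
  have hint : IsIntegral X' := isIntegral_total (n := 2) hL.2.1 hρ
  have hsm : Smooth (ρ ≫ CohB1.ProjSpace.toSpec 1 k) := Lefpen.H470.PencilSm.smooth_total (n := 2) (by norm_num) hL hρ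
  have hgen := rho_gen hL hρ
  let g : XK ρ ⟶ (ρ ⁻¹ᵁ V : Scheme.{u}) := IsOpenImmersion.lift (ρ ⁻¹ᵁ V).ι (pullback.fst ρ (LefMon.genPt k)) (by
    rw [Scheme.Opens.range_ι]
    rintro _ ⟨y, rfl⟩
    change ρ (pullback.fst ρ (LefMon.genPt k) y) ∈ V
    rw [← Scheme.Hom.comp_apply, pullback.condition, Scheme.Hom.comp_apply, K372.P1Loc.genPt_apply]
    exact hη)
  have hg : g ≫ (ρ ⁻¹ᵁ V).ι = pullback.fst ρ (LefMon.genPt k) := IsOpenImmersion.lift_fac _ _ _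
  let bV : Spec (CommRingCat.of (RatFunc k)) ⟶ (V : Scheme.{u}) := IsOpenImmersion.lift V.ι (LefMon.genPt k) (by
    rw [Scheme.Opens.range_ι]
    rintro _ ⟨y, rfl⟩
    rw [K372.P1Loc.genPt_apply]
    exact hη)
  have hbV : bV ≫ V.ι = LefMon.genPt k := IsOpenImmersion.lift_fac _ _ _
  have hne : Nonempty (ρ ⁻¹ᵁ V : Scheme.{u}) := by
    refine ⟨⟨genericPoint X', ?_⟩⟩
    change ρ (genericPoint X') ∈ V
    rw [hgen]
    exact hη
  have hYi : IsIntegral (ρ ⁻¹ᵁ V : Scheme.{u}) := isIntegral_of_isOpenImmersion (ρ ⁻¹ᵁ V).ι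
  have hYs : Smooth ((ρ ⁻¹ᵁ V).ι ≫ ρ ≫ CohB1.ProjSpace.toSpec 1 k) := inferInstance
  have hYn : Pi1.IsNormalScheme (ρ ⁻¹ᵁ V : Scheme.{u}) :=
    Sga4B.CurveComp.isNormalScheme_of_smooth ((ρ ⁻¹ᵁ V).ι ≫ ρ ≫ CohB1.ProjSpace.toSpec 1 k)
  have hC := isSmoothProperCurve hL hρ
  have hH0 := isIso_appTop hL hρ sK hsK
  refine Abs.eq_zero hξ hn g (w ρ Ω) (fK ρ) sK (sV ρ s hs V) bV ((ρ ⁻¹ᵁ V).ι ≫ ρ ≫ CohB1.ProjSpace.toSpec 1 k)
    (LefMon.genPt k ≫ CohB1.ProjSpace.toSpec 1 k) ?_ hsK ?_ ?_ ?_ ?_ z hz1 ?_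
  · rw [← Category.assoc g, hg, ← Category.assoc, ← Category.assoc, pullback.condition]
  · rw [← cancel_mono (ρ ⁻¹ᵁ V).ι, Category.assoc, hg, hsK', Category.assoc, sV_ι, ← Category.assoc, hbV]
  · intro z' hz'
    obtain ⟨t', ht'⟩ := exists_factor ρ
      ((ρ ⁻¹ᵁ V : Scheme.{u}).fromSpecResidueField (genericPoint (ρ ⁻¹ᵁ V : Scheme.{u})) ≫ (ρ ⁻¹ᵁ V).ι) (by
        have h1 : ((ρ ⁻¹ᵁ V : Scheme.{u}).fromSpecResidueField (genericPoint (ρ ⁻¹ᵁ V : Scheme.{u})) ≫ (ρ ⁻¹ᵁ V).ι)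
            (closedPoint _) = genericPoint X' := by
          rw [Scheme.Hom.comp_apply, ← genericPoint_eq_of_isOpenImmersion (ρ ⁻¹ᵁ V).ι]
          congr 1
          exact Scheme.fromSpecResidueField_apply _ _
        exact (congrArg ρ h1).trans hgen)
    refine K372.GenInj.eq_zero_of_factor hYn (ZMod n) g t' ?_ z' hz'
    rw [← cancel_mono (ρ ⁻¹ᵁ V).ι, Category.assoc, hg]
    exact ht'
  · intro p hp
    exact Gal.eq_one_of_pull (isPullback_w (ρ := ρ) Ω) hC hH0 p hp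
  · exact Gal.exists_unit hH0
  · exact hz2 (w ρ Ω ≫ g) (by rw [Category.assoc, hg, w_fst])

end K372.Uniq
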